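import Groth.Agent.H16Derived.DerComp.Null.Acyclic

/-!
# Detecting bijectivity of a unit on objects with nilpotent scalars and on complete groups of maps
-/

set_option autoImplicit false
set_option linter.style.haveILetI false
set_option linter.unusedSectionVars false
set_option backward.isDefEq.respectTransparency false

universe w v u r

open CategoryTheory CategoryTheory.Limits CategoryTheory.Pretriangulated

namespace Groth.Agent.H8FSch.Algz.Nilp

open H16Derived.DerCompLib H16Derived.DerCompLib.Null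

variable {R : Type r} [CommRing R] {A : Type u} [Category.{v} A] [Abelian A] [Linear R A]
  [HasDerivedCategory.{w} A]
  {Φ : DerivedCategory A ⥤ DerivedCategory A} [Φ.CommShift ℤ] [Φ.IsTriangulated]
  (η : 𝟭 (DerivedCategory A) ⟶ Φ)

/-- Composition with the unit. -/
def BU (K L : DerivedCategory A) : Prop :=
  Function.Bijective fun x : K ⟶ L => x ≫ η.app L

/-- The scalar is nilpotent. -/
def Nil (f : R) (L : DerivedCategory A) : Prop := ∃ N : ℕ, f ^ N • 𝟙 L = 0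

variable {η}

theorem Nil.shift {f : R} {L : DerivedCategory A} (h : Nil f L) (n : ℤ) : Nil f (L⟦n⟧) := by
  obtain ⟨N, hN⟩ := h
  exact ⟨N, by rw [← CategoryTheory.Functor.map_id, ← Functor.map_smul, hN, Functor.map_zero]⟩

theorem nat_comp {K L L' : DerivedCategory A} (x : K ⟶ L) (a : L ⟶ L') :
    (x ≫ a) ≫ η.app L' = (x ≫ η.app L) ≫ Φ.map a := by
  rw [Category.assoc, Category.assoc]
  exact congrArg (x ≫ ·) (η.naturality a)

theorem BU.of_iso {K K' L : DerivedCategory A} (e : K ≅ K') (h : BU η K L) : BU η K' L := by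
  refine ⟨fun x y hxy => ?_, fun y => ?_⟩
  · refine (cancel_epi e.hom).1 (h.1 ?_)
    exact (Category.assoc _ _ _).trans ((congrArg (e.hom ≫ ·) hxy).trans (Category.assoc _ _ _).symm)
  · obtain ⟨x, hx⟩ := h.2 (e.hom ≫ y)
    exact ⟨e.inv ≫ x, (Category.assoc _ _ _).trans ((congrArg (e.inv ≫ ·) hx).trans (e.inv_hom_id_assoc y))⟩

theorem bu_of_isIso (K L : DerivedCategory A) (h : IsIso (η.app L)) : BU η K L :=
  ⟨fun _ _ hxy => (cancel_mono (η.app L)).1 hxy, fun y => ⟨y ≫ inv (η.app L), by simp⟩⟩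

/-- Nilpotence passes to cohomology objects. -/
theorem Nil.homology {f : R} {L : DerivedCategory A} (h : Nil f L) (i : ℤ) :
    ∃ N : ℕ, f ^ N • 𝟙 ((DerivedCategory.homologyFunctor A i).obj L) = 0 := by
  obtain ⟨N, hN⟩ := h
  haveI := Localization.essSurj (DerivedCategory.Q (C := A)) (HomologicalComplex.quasiIso A (ComplexShape.up ℤ))
  let C := DerivedCategory.Q.objPreimage L
  let e : DerivedCategory.Q.obj C ≅ L := DerivedCategory.Q.objObjPreimageIso L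
  have hC : f ^ N • 𝟙 (DerivedCategory.Q.obj C) = 0 := by
    rw [← cancel_mono e.hom, Linear.smul_comp, Category.id_comp, zero_comp, ← Category.comp_id e.hom,
      ← Linear.comp_smul, hN, comp_zero]
  refine ⟨N, ?_⟩
  let θ : (DerivedCategory.homologyFunctor A i).obj L ≅ C.homology i :=
    (DerivedCategory.homologyFunctor A i).mapIso e.symm ≪≫ (DerivedCategory.homologyFunctorFactors A i).app C
  rw [← cancel_mono θ.hom, Linear.smul_comp, Category.id_comp, zero_comp, ← Category.comp_id θ.hom,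
    ← Linear.comp_smul, pow_smul_homology C hC i, comp_zero]

section Nilpotent

variable (hlin : ∀ (r : R) (L : DerivedCategory A), Φ.map (r • 𝟙 L) = r • 𝟙 (Φ.obj L))

include hlin in
/-- One scalar killing the source. -/
theorem bu_step {K C L : DerivedCategory A} {a : C ⟶ L} {g : R} {c : L ⟶ C⟦(1 : ℤ)⟧}
    (hT : Triangle.mk a (g • 𝟙 L) c ∈ distTriang (DerivedCategory A)) (hg : g • 𝟙 K = 0)
    (hC : BU η K C) (hL : Function.Surjective fun z : K ⟶ L⟦(-1 : ℤ)⟧ => z ≫ η.app _) : BU η K L := by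
  have hk : ∀ {Z : DerivedCategory A} (x : K ⟶ Z), x ≫ (g • 𝟙 Z) = 0 := fun {Z} x => by
    rw [Linear.comp_smul, Category.comp_id, ← Category.id_comp x, ← Linear.smul_comp, hg, zero_comp]
  refine ⟨(injective_iff_map_eq_zero (Preadditive.rightComp K (η.app L))).2 fun x hx => ?_, fun x => ?_⟩
  · change x ≫ η.app L = 0 at hx
    obtain ⟨y, hy⟩ : ∃ y : K ⟶ C, x = y ≫ a := Triangle.coyoneda_exact₂ _ hT x (hk x)
    have hT' := inv_rot_of_distTriang _ hT
    have h0 : (y ≫ η.app C) ≫ Φ.map a = 0 := by rw [← nat_comp, ← hy, hx]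
    let δ : L⟦(-1 : ℤ)⟧ ⟶ C := (Triangle.mk a (g • 𝟙 L) c).invRotate.mor₁
    obtain ⟨z, hz⟩ : ∃ z : K ⟶ Φ.obj (L⟦(-1 : ℤ)⟧), y ≫ η.app C = z ≫ Φ.map δ :=
      Triangle.coyoneda_exact₂ _ (Φ.map_distinguished _ hT') (y ≫ η.app C) h0
    obtain ⟨z', rfl⟩ := hL z
    have h1 : y = z' ≫ δ := hC.1 (hz.trans (nat_comp z' δ).symm)
    have h2 : δ ≫ a = 0 := comp_distTriang_mor_zero₁₂ _ hT'
    rw [hy, h1, Category.assoc, h2, comp_zero]
  · obtain ⟨y, hy⟩ : ∃ y : K ⟶ Φ.obj C, x = y ≫ Φ.map a :=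
      Triangle.coyoneda_exact₂ _ (Φ.map_distinguished _ hT) x (by
        show x ≫ Φ.map (g • 𝟙 L) = 0
        rw [hlin, hk])
    obtain ⟨y', rfl⟩ := hC.2 y
    exact ⟨y' ≫ a, (nat_comp y' a).trans hy.symm⟩

include hlin in
theorem surjective_step {K C L : DerivedCategory A} {a : C ⟶ L} {g : R} {c : L ⟶ C⟦(1 : ℤ)⟧}
    (hT : Triangle.mk a (g • 𝟙 L) c ∈ distTriang (DerivedCategory A)) (hg : g • 𝟙 K = 0)
    (hC : BU η K C) : Function.Surjective fun x : K ⟶ L => x ≫ η.app L := fun x => by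
  obtain ⟨y, hy⟩ : ∃ y : K ⟶ Φ.obj C, x = y ≫ Φ.map a :=
    Triangle.coyoneda_exact₂ _ (Φ.map_distinguished _ hT) x (by
      show x ≫ Φ.map (g • 𝟙 L) = 0
      rw [hlin, Linear.comp_smul, Category.comp_id, ← Category.id_comp x, ← Linear.smul_comp, hg, zero_comp])
  obtain ⟨y', rfl⟩ := hC.2 y
  exact ⟨y' ≫ a, (nat_comp y' a).trans hy.symm⟩

include hlin in
/-- A source with nilpotent scalars only sees the objects with nilpotent scalars. -/
theorem bu_of_nilpotent {K : DerivedCategory A} (l : List R) (hK : ∀ f ∈ l, Nil f K) :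
    ∀ (W : ObjectProperty (DerivedCategory A)), (∀ L, W L → ∀ n : ℤ, W (L⟦n⟧)) →
      (∀ T ∈ distTriang (DerivedCategory A), W T.obj₂ → W T.obj₃ → W T.obj₁) →
      (∀ L, W L → (∀ f ∈ l, Nil f L) → IsIso (η.app L)) → ∀ L, W L → BU η K L := by
  induction l with
  | nil => exact fun W _ _ hW L hL => bu_of_isIso K L (hW L hL fun _ h => absurd h List.not_mem_nil)
  | cons f l ih =>
    intro W hWs hWe hW
    have hl := ih (fun g hg => hK g (List.mem_cons_of_mem _ hg)) (fun L => W L ∧ Nil f L)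
      (fun L hL n => ⟨hWs L hL.1 n, hL.2.shift n⟩)
      (fun T hT h₂ h₃ => ⟨hWe T hT h₂.1 h₃.1, by
        obtain ⟨M, hM⟩ := h₂.2
        obtain ⟨N, hN⟩ := h₃.2.shift (-1)
        refine ⟨M + N, ?_⟩
        obtain ⟨z, hz⟩ := Triangle.coyoneda_exact₂ _ (inv_rot_of_distTriang _ hT) (f ^ M • 𝟙 T.obj₁) (by
          show (f ^ M • 𝟙 T.obj₁) ≫ T.mor₁ = 0
          rw [Linear.smul_comp, Category.id_comp, ← Category.comp_id T.mor₁, ← Linear.comp_smul, hM, comp_zero])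
        have hzN : f ^ N • z = 0 := by
          rw [← Category.comp_id z, ← Linear.comp_smul]
          exact (congrArg (z ≫ ·) hN).trans comp_zero
        rw [add_comm, pow_add, mul_smul]
        refine (congrArg (f ^ N • ·) hz).trans ((Linear.smul_comp _ _ _ _ _ _).symm.trans ?_)
        rw [hzN, zero_comp]⟩)
      (fun L hL hnil => hW L hL.1 fun g hg => by
        rcases List.mem_cons.1 hg with rfl | hg'
        · exact hL.2
        · exact hnil g hg')
    obtain ⟨M, hM⟩ := hK f List.mem_cons_self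
    have key : ∀ L, W L → ∃ (C : DerivedCategory A) (a : C ⟶ L) (c : L ⟶ C⟦(1 : ℤ)⟧),
        Triangle.mk a (f ^ M • 𝟙 L) c ∈ distTriang (DerivedCategory A) ∧ BU η K C := fun L hL => by
      obtain ⟨C, a, c, hT⟩ := distinguished_cocone_triangle₁ (f ^ M • 𝟙 L)
      refine ⟨C, a, c, hT, hl C ⟨hWe _ hT hL hL, ?_⟩⟩
      have h1 : (f ^ M * f ^ M) • 𝟙 (C⟦(1 : ℤ)⟧) = 0 := by
        refine sq_smul_id_eq_zero (rot_of_distTriang _ hT) ?_ ?_
        · show f ^ M • c = 0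
          have h : (f ^ M • 𝟙 L) ≫ c = 0 := comp_distTriang_mor_zero₂₃ _ hT
          rwa [Linear.smul_comp, Category.id_comp] at h
        · show f ^ M • (Triangle.mk a (f ^ M • 𝟙 L) c).rotate.mor₃ = 0
          have h : (Triangle.mk a (f ^ M • 𝟙 L) c).rotate.mor₃ ≫ (f ^ M • 𝟙 L)⟦(1 : ℤ)⟧' = 0 :=
            comp_distTriang_mor_zero₃₁ _ (rot_of_distTriang _ hT)
          exact (comp_smul_id_shift (1 : ℤ) _).symm.trans h
      refine ⟨M + M, (shiftFunctor (DerivedCategory A) (1 : ℤ)).map_injective ?_⟩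
      rw [Functor.map_smul, CategoryTheory.Functor.map_id, Functor.map_zero, pow_add]
      exact h1
    intro L hL
    obtain ⟨C, a, c, hT, hC⟩ := key L hL
    obtain ⟨C', a', c', hT', hC'⟩ := key (L⟦(-1 : ℤ)⟧) (hWs L hL (-1))
    exact bu_step hlin hT hM hC (surjective_step hlin hT' hM hC')

end Nilpotent

section Descent

/-- Completeness of a scalar on maps out of an object. -/
abbrev CompOn (f : R) (Y L : DerivedCategory A) : Prop := Comp (Preadditive.leftComp L (f • 𝟙 Y))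

variable {f : R} {Y C : DerivedCategory A} {i : Y ⟶ C} {d : C ⟶ Y⟦(1 : ℤ)⟧}
  (hT : Triangle.mk (f • 𝟙 Y) i d ∈ distTriang (DerivedCategory A)) {L : DerivedCategory A}

include hT in
/-- Injectivity from the cone of a scalar which is complete. -/
theorem injective_of_cone (hC : BU η C L) (hC' : Function.Injective fun x : C⟦(-1 : ℤ)⟧ ⟶ L => x ≫ η.app L)
    (hc : CompOn f Y L) : Function.Injective fun x : Y ⟶ L => x ≫ η.app L := by
  refine (injective_iff_map_eq_zero (Preadditive.rightComp Y (η.app L))).2 fun x hx => ?_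
  let δ : C⟦(-1 : ℤ)⟧ ⟶ Y := (Triangle.mk (f • 𝟙 Y) i d).invRotate.mor₁
  have step : ∀ x : {x : Y ⟶ L // x ≫ η.app L = 0},
      ∃ x' : {x : Y ⟶ L // x ≫ η.app L = 0}, x.1 = (f • 𝟙 Y) ≫ x'.1 := by
    rintro ⟨x, hx⟩
    have h0 : δ ≫ x = 0 := hC' (by
      show (δ ≫ x) ≫ η.app L = (0 : C⟦(-1 : ℤ)⟧ ⟶ L) ≫ η.app L
      rw [Category.assoc, hx, comp_zero, zero_comp])
    obtain ⟨x₁, hx₁⟩ : ∃ x₁ : Y ⟶ L, x = (f • 𝟙 Y) ≫ x₁ :=
      Triangle.yoneda_exact₂ _ (inv_rot_of_distTriang _ hT) x h0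
    obtain ⟨w, hw⟩ : ∃ w : C ⟶ Φ.obj L, x₁ ≫ η.app L = i ≫ w :=
      Triangle.yoneda_exact₂ _ hT (x₁ ≫ η.app L) (by
        show (f • 𝟙 Y) ≫ x₁ ≫ η.app L = 0
        rw [← Category.assoc, ← hx₁, hx])
    obtain ⟨w', rfl⟩ := hC.2 w
    refine ⟨⟨x₁ - i ≫ w', ?_⟩, ?_⟩
    · rw [Preadditive.sub_comp, Category.assoc]
      exact sub_eq_zero.2 hw
    · have hi : (f • 𝟙 Y) ≫ i = 0 := comp_distTriang_mor_zero₁₂ _ hT
      show x = (f • 𝟙 Y) ≫ (x₁ - i ≫ w')
      rw [Preadditive.comp_sub, ← hx₁, ← Category.assoc, hi, zero_comp, sub_zero]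
  choose g hg using step
  have := congrFun (hc.eq_zero (x := fun n => (g^[n] ⟨x, hx⟩).1) fun n => by
    show _ = (f • 𝟙 Y) ≫ _
    rw [Function.iterate_succ_apply']
    exact hg _) 0
  exact this

include hT in
/-- Surjectivity from the cone of a scalar which is complete. -/
theorem surjective_of_cone (hC' : Function.Surjective fun x : C⟦(-1 : ℤ)⟧ ⟶ L => x ≫ η.app L)
    (hY : Function.Injective fun x : Y⟦(-1 : ℤ)⟧ ⟶ L => x ≫ η.app L)
    (hc : CompOn f Y L) (hcT : CompOn f Y (Φ.obj L)) :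
    Function.Surjective fun x : Y ⟶ L => x ≫ η.app L := by
  let T' := (Triangle.mk (f • 𝟙 Y) i d).invRotate
  have hT' : T' ∈ distTriang (DerivedCategory A) := inv_rot_of_distTriang _ hT
  let δ : C⟦(-1 : ℤ)⟧ ⟶ Y := T'.mor₁
  have step : ∀ y : Y ⟶ Φ.obj L, ∃ (x₀ : Y ⟶ L) (y₁ : Y ⟶ Φ.obj L), y = x₀ ≫ η.app L + (f • 𝟙 Y) ≫ y₁ := by
    intro y
    obtain ⟨w, hw⟩ := hC' (δ ≫ y)
    change w ≫ η.app L = δ ≫ y at hw
    let T'' := T'.invRotate
    have hT'' : T'' ∈ distTriang (DerivedCategory A) := inv_rot_of_distTriang _ hT'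
    have h0 : T''.mor₁ ≫ w = 0 := hY (by
      show (T''.mor₁ ≫ w) ≫ η.app L = (0 : Y⟦(-1 : ℤ)⟧ ⟶ L) ≫ η.app L
      have h : T''.mor₁ ≫ δ = 0 := comp_distTriang_mor_zero₁₂ _ hT''
      rw [Category.assoc, hw, zero_comp]
      exact (Category.assoc _ _ _).symm.trans ((congrArg (· ≫ y) h).trans zero_comp))
    obtain ⟨x₀, hx₀⟩ : ∃ x₀ : Y ⟶ L, w = δ ≫ x₀ := Triangle.yoneda_exact₂ _ hT'' w h0
    obtain ⟨y₁, hy₁⟩ : ∃ y₁ : Y ⟶ Φ.obj L, y - x₀ ≫ η.app L = (f • 𝟙 Y) ≫ y₁ :=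
      Triangle.yoneda_exact₂ _ hT' (y - x₀ ≫ η.app L) (by
        show δ ≫ (y - x₀ ≫ η.app L) = 0
        rw [Preadditive.comp_sub, ← Category.assoc δ x₀, ← hx₀, hw, sub_self])
    exact ⟨x₀, y₁, eq_add_of_sub_eq' hy₁⟩
  intro y
  choose x₀ y₁ hxy using step
  obtain ⟨w, hw⟩ := hc.2 fun n => x₀ (y₁^[n] y)
  refine ⟨w 0, ?_⟩
  have h := congrFun (hcT.eq_zero (x := fun n => y₁^[n] y - w n ≫ η.app L) fun n => by
    have hw' : x₀ (y₁^[n] y) = w n - (f • 𝟙 Y) ≫ w (n + 1) := (congrFun hw n).symm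
    show y₁^[n] y - w n ≫ η.app L = (f • 𝟙 Y) ≫ (y₁^[n + 1] y - w (n + 1) ≫ η.app L)
    rw [Function.iterate_succ_apply']
    conv_lhs => rw [hxy (y₁^[n] y), hw']
    simp only [Preadditive.sub_comp, Preadditive.comp_sub, Category.assoc]
    abel) 0
  exact (sub_eq_zero.1 h).symm

end Descent

/-- The shifted triangle of a scalar. -/
theorem exists_triangle_shift {f : R} {Y C : DerivedCategory A} {i : Y ⟶ C} {d : C ⟶ Y⟦(1 : ℤ)⟧}
    (hT : Triangle.mk (f • 𝟙 Y) i d ∈ distTriang (DerivedCategory A)) (n : ℤ) :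
    ∃ (C' : DerivedCategory A) (i' : Y⟦n⟧ ⟶ C') (d' : C' ⟶ (Y⟦n⟧)⟦(1 : ℤ)⟧),
      Triangle.mk (f • 𝟙 (Y⟦n⟧)) i' d' ∈ distTriang (DerivedCategory A) ∧ Nonempty (C⟦n⟧ ≅ C') := by
  obtain ⟨C', i', d', hT'⟩ := distinguished_cocone_triangle (f • 𝟙 (Y⟦n⟧))
  let e : Y⟦n⟧ ≅ Y⟦n⟧ :=
    { hom := n.negOnePow • 𝟙 _
      inv := n.negOnePow • 𝟙 _
      hom_inv_id := by simp [smul_smul]
      inv_hom_id := by simp [smul_smul] }
  refine ⟨C', i', d', hT', ⟨Triangle.π₃.mapIso (isoTriangleOfIso₁₂ _ _ (Triangle.shift_distinguished _ hT n) hT'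
    (Iso.refl _) e ?_)⟩⟩
  show (n.negOnePow • (f • 𝟙 Y)⟦n⟧') ≫ (n.negOnePow • 𝟙 _) = 𝟙 _ ≫ (f • 𝟙 (Y⟦n⟧))
  rw [Functor.map_smul, CategoryTheory.Functor.map_id]
  simp [smul_smul]

/-- Descent from a Koszul complex. -/
theorem bu_of_kX (l : List R) (X : CochainComplex A ℤ) (L : DerivedCategory A)
    (hc : ∀ f ∈ l, ∀ (l' : List R) (n : ℤ),
      CompOn f ((DerivedCategory.Q.obj (kX R l' X))⟦n⟧) L ∧ CompOn f ((DerivedCategory.Q.obj (kX R l' X))⟦n⟧) (Φ.obj L))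
    (h : ∀ n : ℤ, BU η ((DerivedCategory.Q.obj (kX R l X))⟦n⟧) L) :
    ∀ n : ℤ, BU η ((DerivedCategory.Q.obj X)⟦n⟧) L := by
  suffices ∀ l' : List R, (∀ f ∈ l', f ∈ l) → (∀ n : ℤ, BU η ((DerivedCategory.Q.obj (kX R l' X))⟦n⟧) L) →
      ∀ n : ℤ, BU η ((DerivedCategory.Q.obj X)⟦n⟧) L from this l (fun _ hf => hf) h
  intro l'
  induction l' with
  | nil => exact fun _ h => h
  | cons f l' ih =>
    intro hmem h
    obtain ⟨i, d, hT⟩ := exists_triangle f l' X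
    have hf := hc f (hmem f List.mem_cons_self) l'
    have hinj : ∀ n : ℤ, Function.Injective
        fun x : (DerivedCategory.Q.obj (kX R l' X))⟦n⟧ ⟶ L => x ≫ η.app L := fun n => by
      obtain ⟨C', i', d', hT', ⟨e⟩⟩ := exists_triangle_shift hT n
      refine injective_of_cone hT' ((h n).of_iso e) (BU.of_iso ?_ (h (n - 1))).1 (hf n).1
      exact (shiftFunctorAdd' (DerivedCategory A) n (-1) (n - 1) (by omega)).app _ ≪≫ (shiftFunctor _ (-1 : ℤ)).mapIso e
    refine ih (fun g hg => hmem g (List.mem_cons_of_mem _ hg)) fun n => ⟨hinj n, ?_⟩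
    obtain ⟨C', i', d', hT', ⟨e⟩⟩ := exists_triangle_shift hT n
    refine surjective_of_cone hT' (BU.of_iso ?_ (h (n - 1))).2 ?_ (hf n).1 (hf n).2
    · exact (shiftFunctorAdd' (DerivedCategory A) n (-1) (n - 1) (by omega)).app _ ≪≫ (shiftFunctor _ (-1 : ℤ)).mapIso e
    · intro x y hxy
      let c := (shiftFunctorAdd' (DerivedCategory A) n (-1) (n - 1) (by omega)).app
        (DerivedCategory.Q.obj (kX R l' X))
      refine (cancel_epi c.hom).1 (hinj (n - 1) ?_)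
      exact (Category.assoc _ _ _).trans ((congrArg (c.hom ≫ ·) hxy).trans (Category.assoc _ _ _).symm)

/-- Complete groups of maps and nilpotent scalars. -/
theorem bu_main (hlin : ∀ (r : R) (L : DerivedCategory A), Φ.map (r • 𝟙 L) = r • 𝟙 (Φ.obj L)) (l : List R)
    (W : ObjectProperty (DerivedCategory A)) (hWs : ∀ L, W L → ∀ n : ℤ, W (L⟦n⟧))
    (hWe : ∀ T ∈ distTriang (DerivedCategory A), W T.obj₂ → W T.obj₃ → W T.obj₁)
    (hW : ∀ L, W L → (∀ f ∈ l, Nil f L) → IsIso (η.app L))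
    (S : ObjectProperty (DerivedCategory A)) [S.IsClosedUnderIsomorphisms] (hSs : ∀ L, S L → ∀ n : ℤ, S (L⟦n⟧))
    (hSe : ∀ T ∈ distTriang (DerivedCategory A), S T.obj₂ → S T.obj₃ → S T.obj₁)
    {Y L : DerivedCategory A} (hY : S Y) (hL : W L)
    (hc : ∀ f ∈ l, ∀ Y', S Y' → CompOn f Y' L) (hcT : ∀ f ∈ l, ∀ Y', CompOn f Y' (Φ.obj L)) : BU η Y L := by
  haveI := Localization.essSurj (DerivedCategory.Q (C := A)) (HomologicalComplex.quasiIso A (ComplexShape.up ℤ))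
  let C := DerivedCategory.Q.objPreimage Y
  let e : DerivedCategory.Q.obj C ≅ Y := DerivedCategory.Q.objObjPreimageIso Y
  have hS : ∀ l' : List R, S (DerivedCategory.Q.obj (kX R l' C)) := by
    intro l'
    induction l' with
    | nil => exact S.prop_of_iso e.symm hY
    | cons g l' ih =>
      obtain ⟨i, d, hT⟩ := exists_triangle g l' C
      exact hSe _ (rot_of_distTriang _ (rot_of_distTriang _ hT)) (hSs _ ih 1) (hSs _ ih 1)
  have h := bu_of_kX (η := η) l C L (fun f hf l' n => ⟨hc f hf _ (hSs _ (hS l') n), hcT f hf _⟩)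
    (fun n => bu_of_nilpotent hlin l (fun f hf => Nil.shift (exists_pow_smul_eq_zero l C hf) n) W hWs hWe hW L hL) 0
  exact BU.of_iso ((shiftFunctorZero (DerivedCategory A) ℤ).app _ ≪≫ e) h

end Groth.Agent.H8FSch.Algz.Nilp
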