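import Groth.Agent.H16Derived.ExactAdj
import Groth.Agent.H8FSch.Algz.Nilp
import Mathlib.Algebra.Homology.DerivedCategory.Linear
import Mathlib.Algebra.Homology.DerivedCategory.HomologySequence
import Mathlib.Algebra.Homology.ShortComplex.Linear

/-!
# The derived unit of an adjunction of exact functors
-/

set_option autoImplicit false
set_option linter.style.haveILetI false
set_option linter.unusedSectionVars false

set_option backward.isDefEq.respectTransparency false

universe v u v' u' r w w'

open CategoryTheory CategoryTheory.Limits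

namespace Groth.Agent.H8FSch.Algz.AbsUnit

open H16Derived

variable {R : Type r} [CommRing R] {A : Type u} [Category.{v} A] [Abelian A] [Linear R A]
  {B : Type u'} [Category.{v'} B] [Abelian B] [HasDerivedCategory.{w} A] [HasDerivedCategory.{w'} B]
  {K : A ⥤ B} {P : B ⥤ A} [K.Additive] [P.Additive] [PreservesFiniteLimits K] [PreservesFiniteColimits K]
  [PreservesFiniteLimits P] [PreservesFiniteColimits P]

variable (K P) in
/-- The composite on derived categories. -/
noncomputable abbrev Φ : DerivedCategory A ⥤ DerivedCategory A := K.mapDerivedCategory ⋙ P.mapDerivedCategory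

/-- The unit. -/
noncomputable abbrev η (adj : K ⊣ P) : 𝟭 _ ⟶ Φ K P := (ExactAdj.mapDerivedCategoryAdj adj).unit

variable (K P) in
/-- The value on a complex. -/
noncomputable def ΦQ (C : CochainComplex A ℤ) :
    (Φ K P).obj (DerivedCategory.Q.obj C) ≅ DerivedCategory.Q.obj
      ((P.mapHomologicalComplex (ComplexShape.up ℤ)).obj ((K.mapHomologicalComplex (ComplexShape.up ℤ)).obj C)) :=
  P.mapDerivedCategory.mapIso (K.mapDerivedCategoryFactors.app C) ≪≫ P.mapDerivedCategoryFactors.app _

theorem ΦQ_naturality {C C' : CochainComplex A ℤ} (φ : C ⟶ C') :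
    (Φ K P).map (DerivedCategory.Q.map φ) ≫ (ΦQ K P C').hom = (ΦQ K P C).hom ≫ DerivedCategory.Q.map
      ((P.mapHomologicalComplex (ComplexShape.up ℤ)).map ((K.mapHomologicalComplex (ComplexShape.up ℤ)).map φ)) := by
  have h1 := K.mapDerivedCategoryFactors.hom.naturality φ
  have h2 := P.mapDerivedCategoryFactors.hom.naturality ((K.mapHomologicalComplex (ComplexShape.up ℤ)).map φ)
  dsimp [ΦQ] at h1 h2 ⊢
  rw [Category.assoc, ← h2, ← Functor.map_comp_assoc, h1, Functor.map_comp_assoc]

/-- Linearity. -/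
theorem map_smul_id (hlin : ∀ (r : R) (M : A), P.map (K.map (r • 𝟙 M)) = r • 𝟙 (P.obj (K.obj M)))
    (r : R) (L : DerivedCategory A) : (Φ K P).map (r • 𝟙 L) = r • 𝟙 ((Φ K P).obj L) := by
  let C := DerivedCategory.Q.objPreimage L
  let e : DerivedCategory.Q.obj C ≅ L := DerivedCategory.Q.objObjPreimageIso L
  suffices h : (Φ K P).map (r • 𝟙 (DerivedCategory.Q.obj C)) = r • 𝟙 ((Φ K P).obj (DerivedCategory.Q.obj C)) by
    rw [← cancel_epi ((Φ K P).map e.hom), ← Functor.map_comp,
      show e.hom ≫ (r • 𝟙 L) = (r • 𝟙 (DerivedCategory.Q.obj C)) ≫ e.hom by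
        rw [Linear.comp_smul, Linear.smul_comp, Category.comp_id, Category.id_comp],
      Functor.map_comp, h, Linear.comp_smul, Linear.smul_comp, Category.comp_id, Category.id_comp]
  have hC : (P.mapHomologicalComplex (ComplexShape.up ℤ)).map
      ((K.mapHomologicalComplex (ComplexShape.up ℤ)).map (r • 𝟙 C)) = r • 𝟙 _ :=
    HomologicalComplex.hom_ext _ _ fun i => hlin r (C.X i)
  have hr : r • 𝟙 (DerivedCategory.Q.obj C) = DerivedCategory.Q.map (r • 𝟙 C) := by
    rw [Functor.map_smul, CategoryTheory.Functor.map_id]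
  rw [← cancel_mono (ΦQ K P C).hom, hr, ΦQ_naturality, hC, Functor.map_smul, CategoryTheory.Functor.map_id,
    Linear.comp_smul, Linear.smul_comp, Category.comp_id, Category.id_comp]

variable (adj : K ⊣ P)

/-- The unit on a complex. -/
theorem η_Q (C : CochainComplex A ℤ) :
    (η adj).app (DerivedCategory.Q.obj C) ≫ (ΦQ K P C).hom =
      DerivedCategory.Q.map ((mapHomologicalComplexAdj adj (ComplexShape.up ℤ)).unit.app C) := by
  unfold η ExactAdj.mapDerivedCategoryAdj
  erw [Adjunction.localization_unit_app]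
  simp only [ΦQ, CatCommSq.iso, Iso.trans_hom, Functor.mapIso_hom, Iso.app_hom, Category.assoc, Iso.symm_hom,
    Functor.comp_map]
  rw [← Functor.map_comp_assoc, Iso.inv_hom_id_app]
  erw [CategoryTheory.Functor.map_id]
  erw [Category.id_comp, Iso.inv_hom_id_app, Category.comp_id]

/-- The unit is an isomorphism if it is so on cohomology objects. -/
theorem isIso_η (L : DerivedCategory A)
    (h : ∀ i, IsIso (adj.unit.app ((DerivedCategory.homologyFunctor A i).obj L))) : IsIso ((η adj).app L) := by
  let C := DerivedCategory.Q.objPreimage L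
  let e : DerivedCategory.Q.obj C ≅ L := DerivedCategory.Q.objObjPreimageIso L
  suffices hC : IsIso ((η adj).app (DerivedCategory.Q.obj C)) from
    (NatTrans.isIso_app_iff_of_iso (η adj) e).1 hC
  let ν := (mapHomologicalComplexAdj adj (ComplexShape.up ℤ)).unit.app C
  haveI : QuasiIso ν := ⟨fun n => by
    rw [quasiIsoAt_iff_isIso_homologyMap]
    haveI hn : IsIso (adj.unit.app (C.homology n)) :=
      (NatTrans.isIso_app_iff_of_iso adj.unit ((DerivedCategory.homologyFunctor A n).mapIso e.symm ≪≫
        (DerivedCategory.homologyFunctorFactors A n).app C)).1 (h n)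
    haveI : PreservesFiniteColimits (K ⋙ P) := comp_preservesFiniteColimits _ _
    haveI : PreservesFiniteLimits (K ⋙ P) := comp_preservesFiniteLimits _ _
    haveI : IsIso (adj.unit.app (C.sc n).homology) := hn
    haveI : IsIso (ShortComplex.homologyMap ((C.sc n).mapNatTrans adj.unit)) := by
      rw [ShortComplex.homologyMap_mapNatTrans]
      infer_instance
    exact this⟩
  haveI : IsIso (DerivedCategory.Q.map ν) :=
    Localization.inverts DerivedCategory.Q (HomologicalComplex.quasiIso A (ComplexShape.up ℤ)) _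
      (inferInstance : QuasiIso ν)
  haveI : IsIso ((η adj).app (DerivedCategory.Q.obj C) ≫ (ΦQ K P C).hom) := by rw [η_Q]; infer_instance
  exact IsIso.of_isIso_comp_right _ (ΦQ K P C).hom

/-- Bijectivity of the unit on maps, from completeness. -/
theorem bu_main (hlin : ∀ (r : R) (M : A), P.map (K.map (r • 𝟙 M)) = r • 𝟙 (P.obj (K.obj M))) (l : List R)
    (W : ObjectProperty (DerivedCategory A)) (hWs : ∀ L, W L → ∀ n : ℤ, W (L⟦n⟧))
    (hWe : ∀ T ∈ Pretriangulated.distinguishedTriangles, W (Pretriangulated.Triangle.obj₂ T) → W T.obj₃ → W T.obj₁)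
    (hW : ∀ L, W L → (∀ f ∈ l, Nilp.Nil f L) → IsIso ((η adj).app L))
    (S : ObjectProperty (DerivedCategory A)) [S.IsClosedUnderIsomorphisms] (hSs : ∀ L, S L → ∀ n : ℤ, S (L⟦n⟧))
    (hSe : ∀ T ∈ Pretriangulated.distinguishedTriangles, S (Pretriangulated.Triangle.obj₂ T) → S T.obj₃ → S T.obj₁)
    {Y L : DerivedCategory A} (hY : S Y) (hL : W L) (hc : ∀ f ∈ l, ∀ Y', S Y' → Nilp.CompOn f Y' L)
    (hcT : ∀ f ∈ l, ∀ Y', Nilp.CompOn f Y' ((Φ K P).obj L)) : Nilp.BU (η adj) Y L :=
  Nilp.bu_main (map_smul_id hlin) l W hWs hWe hW S hSs hSe hY hL hc hcT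

/-- The value on a shifted object in a single degree. -/
noncomputable def ΦSingle (M : A) (k : ℤ) :
    (Φ K P).obj (((DerivedCategory.singleFunctor A 0).obj M)⟦k⟧) ≅
      ((DerivedCategory.singleFunctor A 0).obj (P.obj (K.obj M)))⟦k⟧ :=
  ((Φ K P).commShiftIso k).app _ ≪≫ (shiftFunctor (DerivedCategory A) k).mapIso
    (P.mapDerivedCategory.mapIso ((K.mapDerivedCategorySingleFunctor 0).app M) ≪≫
      (P.mapDerivedCategorySingleFunctor 0).app _)

end Groth.Agent.H8FSch.Algz.AbsUnit
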