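import Groth.Agent.H16Derived.WayOut

/-!
# Induction on bounded complexes
-/

set_option autoImplicit false
set_option linter.style.haveILetI false

universe w v u

open CategoryTheory CategoryTheory.Limits CategoryTheory.Pretriangulated DerivedCategory DerivedCategory.TStructure

namespace Groth.Agent.H8FSch.Algz

variable {A : Type u} [Category.{v} A] [Abelian A] [HasDerivedCategory.{w} A]
  (P : ObjectProperty A) [P.IsClosedUnderIsomorphisms] (C : DerivedCategory A → Prop)

/-- A property closed under extensions holds on bounded complexes if it holds on single objects. -/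
theorem bounded_induction (hP : ∀ Z : A, IsZero Z → P Z) (hiso : ∀ {X Y : DerivedCategory A}, (X ≅ Y) → C X → C Y)
    (hext : ∀ T ∈ distTriang (DerivedCategory A), C T.obj₁ → C T.obj₃ → C T.obj₂)
    (hzero : ∀ X : DerivedCategory A, IsZero X → C X)
    (hsingle : ∀ (M : A) (n : ℤ), P M → C ((singleFunctor A n).obj M))
    (X : DerivedCategory A) (a b : ℤ) (ha : X.IsGE a) (hb : X.IsLE b)
    (hX : ∀ i, P ((homologyFunctor A i).obj X)) : C X := by
  haveI := ha
  haveI := hb
  rcases lt_or_ge b a with hab | hab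
  · exact hzero X ((IsZero.iff_id_eq_zero _).2 (t.zero_of_isLE_of_isGE _ b a hab inferInstance inferInstance))
  obtain ⟨k, hk⟩ := Int.le.dest hab
  subst hk
  induction k generalizing X with
  | zero =>
    haveI : X.IsLE a := by simpa using ‹X.IsLE (a + ((0 : ℕ) : ℤ))›
    obtain ⟨M, ⟨e⟩⟩ := X.exists_iso_singleFunctor_obj_of_isGE_of_isLE a
    exact hiso e.symm (hsingle M a (P.prop_of_iso ((homologyFunctor A a).mapIso e ≪≫
      (singleFunctorCompHomologyFunctorIso A a).app M) (hX a)))
  | succ k ih =>
    have h1 : DerivedCategory.IsGE ((t.truncLT (a + k + 1)).obj X) a := H16Derived.DTrunc.isGE_truncLT X _ a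
    have h2 : DerivedCategory.IsLE ((t.truncLT (a + k + 1)).obj X) (a + k) :=
      inferInstanceAs (t.IsLE ((t.truncLT (a + k + 1)).obj X) (a + k))
    have h3 : DerivedCategory.IsGE ((t.truncGE (a + k + 1)).obj X) (a + k + 1) :=
      inferInstanceAs (t.IsGE _ (a + k + 1))
    have h4 : DerivedCategory.IsLE ((t.truncGE (a + k + 1)).obj X) (a + k + 1) := by
      haveI : X.IsLE (a + k + 1) := by
        simpa [add_assoc] using ‹X.IsLE (a + ((k + 1 : ℕ) : ℤ))›
      exact H16Derived.DTrunc.isLE_truncGE X _ _
    refine hext _ (t.triangleLTGE_distinguished (a + k + 1) X)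
      (@ih ((t.truncLT (a + k + 1)).obj X) h1 (H16Derived.WayOut.p_truncLT P hP hX _) h1 h2 h2 (by lia)) ?_
    haveI := h3
    haveI := h4
    obtain ⟨M, ⟨e⟩⟩ :=
      DerivedCategory.exists_iso_singleFunctor_obj_of_isGE_of_isLE ((t.truncGE (a + k + 1)).obj X) (a + k + 1)
    exact hiso e.symm (hsingle M _ (P.prop_of_iso ((homologyFunctor A _).mapIso e ≪≫
      (singleFunctorCompHomologyFunctorIso A _).app M) (H16Derived.WayOut.p_truncGE P hP hX _ _)))

end Groth.Agent.H8FSch.Algz
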