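import Groth.Agent.H24FMod.AlgPred
import Groth.Agent.H24FMod.RealPush
import Groth.Agent.H24GE.Existence
import Groth.Agent.H24FMod.FlatTo

/-!
# Completion of coherent modules on a proper scheme over a complete ring is an equivalence
-/

set_option autoImplicit false
set_option linter.style.haveILetI false
set_option linter.unusedSectionVars false

universe u

attribute [-instance] CategoryTheory.catToReflQuiver

open AlgebraicGeometry CategoryTheory CategoryTheory.Limits TopologicalSpace Opposite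

namespace Groth.Agent.H8FSch.Algz

open H24FMod

section General

variable {A : Type u} [CommRing A] [IsNoetherianRing A] (I : Ideal A) [IsAdicComplete I A]
  {X : Scheme.{u}} [X.Over (Spec (CommRingCat.of A))] [IsProper (X ↘ Spec (CommRingCat.of A))]
  [IsLocallyNoetherian X] {𝔛 : FSch.Sys.{u}} (hL : 𝔛.IsLocNoethFormal)
  (c : ∀ n, 𝔛.X n ⟶ X) (hc : ∀ n, 𝔛.ι n ≫ c (n + 1) = c n) [∀ n, IsClosedImmersion (c n)]
  (hk : ∀ n, (c n).ker = H24GE.idealOf X I ^ (n + 1))
  (T : ∀ n, Scheme.Modules.pullback (c (n + 1)) ⋙ Scheme.Modules.pullback (𝔛.ι n) ≅ Scheme.Modules.pullback (c n))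
  (hT : ∀ n, T n = Scheme.Modules.pullbackComp (𝔛.ι n) (c (n + 1)) ≪≫ Scheme.Modules.pullbackCongr (hc n))

include hk hT in
/-- The inverse image to the completion is fully faithful on coherent modules. -/
theorem bijective_pull_map (M N : X.Modules) (hM : Coh.IsCoh M) (hN : Coh.IsCoh N) :
    Function.Bijective (fun φ : M ⟶ N => (FSch.toSchemeMor 𝔛 hL.1 c hc).pull.map φ) := by
  have hI : I.FG := IsNoetherian.noetherian I
  let S := FSch.toSchemeMor 𝔛 hL.1 c hc
  obtain ⟨e, he⟩ := exists_pull_iso hL c hc T hT N hN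
  obtain ⟨e', he'⟩ := exists_complIso c hc I hk T hT hI N hN
  let 𝔑 := pbSys c T N
  haveI hcmp : ∀ k, IsIso ((FSch.schPushCompare 𝔛 hL.1 c hc k).app (𝔑.F k)) := fun k =>
    isIso_schPushCompare hL c hc k _
  let q : ∀ k, S.pull.obj N ⟶ (FSch.levelMor 𝔛 hL.1 k).push.obj (𝔑.F k) := fun k =>
    e.hom ≫ FSch.realProj 𝔛 hL.1 𝔑.F 𝔑.toPush k
  have hq : ∀ k, q (k + 1) ≫ ((FSch.levelMor 𝔛 hL.1 (k + 1)).push.map (𝔑.toPush k) ≫
      (FSch.pushCompare 𝔛 hL.1 k).app (𝔑.F k)) = q k := fun k =>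
    (Category.assoc _ _ _).trans (congrArg (e.hom ≫ ·) (FSch.realProj_map 𝔛 hL.1 𝔑.F 𝔑.toPush k))
  let g : (S.pull.obj M ⟶ S.pull.obj N) → ∀ k, M ⟶ (Scheme.Modules.pushforward (c k)).obj (𝔑.F k) :=
    fun θ k => S.adj.homEquiv _ _ (θ ≫ q k) ≫ inv ((FSch.schPushCompare 𝔛 hL.1 c hc k).app (𝔑.F k))
  have hstep : ∀ θ k, g θ (k + 1) ≫ stepMap c hc 𝔑 k = g θ k := fun θ k => by
    refine (cancel_mono ((FSch.schPushCompare 𝔛 hL.1 c hc k).app (𝔑.F k))).1 ?_
    refine (Category.assoc _ _ _).trans ((congrArg (g θ (k + 1) ≫ ·) (schPush_step hL c hc 𝔑 k)).trans ?_)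
    refine Eq.trans ?_ ((Category.assoc _ _ _).trans
      ((congrArg (_ ≫ ·) (IsIso.inv_hom_id _)).trans (Category.comp_id _))).symm
    refine ((Category.assoc _ _ _).trans (congrArg (_ ≫ ·) (IsIso.inv_hom_id_assoc _ _))).trans ?_
    refine (Adjunction.homEquiv_naturality_right _ _ _).symm.trans ?_
    exact congrArg (S.adj.homEquiv _ _) ((Category.assoc _ _ _).trans (congrArg (θ ≫ ·) (hq k)))
  have hmap : ∀ (φ : M ⟶ N) k, g (S.pull.map φ) k = φ ≫ lvUnit c T N k := fun φ k => by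
    refine (cancel_mono ((FSch.schPushCompare 𝔛 hL.1 c hc k).app (𝔑.F k))).1 ?_
    refine ((Category.assoc _ _ _).trans
      ((congrArg (_ ≫ ·) (IsIso.inv_hom_id _)).trans (Category.comp_id _))).trans ?_
    refine Eq.trans ?_ (Category.assoc _ _ _).symm
    rw [Adjunction.homEquiv_naturality_left]
    refine congrArg (φ ≫ ·) ?_
    exact (Adjunction.homEquiv_naturality_right _ _ _).trans (he k)
  have hinj : ∀ θ θ', (∀ k, g θ k = g θ' k) → θ = θ' := fun θ θ' h => by
    refine (cancel_mono e.hom).1 (limit.hom_ext fun j => ?_)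
    obtain ⟨k⟩ := j
    refine (Category.assoc _ _ _).trans (Eq.trans ?_ (Category.assoc _ _ _).symm)
    refine (S.adj.homEquiv _ _).injective ?_
    haveI := hcmp k
    let 𝔠 := (FSch.schPushCompare 𝔛 hL.1 c hc k).app (𝔑.F k)
    have h1 := congrArg (· ≫ 𝔠) (h k)
    exact ((Category.assoc _ _ _).trans ((congrArg (_ ≫ ·) (@IsIso.inv_hom_id _ _ _ _ _ (hcmp k))).trans (Category.comp_id _))).symm.trans
      (h1.trans ((Category.assoc _ _ _).trans ((congrArg (_ ≫ ·) (@IsIso.inv_hom_id _ _ _ _ _ (hcmp k))).trans (Category.comp_id _))))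
  let h : (S.pull.obj M ⟶ S.pull.obj N) → ∀ k, M ⟶ Formal.modPow I (k + 1) N := fun θ k =>
    g θ k ≫ e'.inv.app (op k)
  have hh : ∀ (φ : M ⟶ N) k, h (S.pull.map φ) k = φ ≫ Formal.modPowπ I (k + 1) N := fun φ k => by
    refine (congrArg (· ≫ e'.inv.app (op k)) (hmap φ k)).trans ((Category.assoc _ _ _).trans ?_)
    refine congrArg (φ ≫ ·) ?_
    refine (congrArg (· ≫ e'.inv.app (op k)) (he' k).symm).trans ((Category.assoc _ _ _).trans ?_)
    exact (congrArg (Formal.modPowπ I (k + 1) N ≫ ·) (e'.hom_inv_id_app (op k))).trans (Category.comp_id _)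
  have hcompat : ∀ θ k, h θ (k + 1) ≫ Formal.modPowTrans I (k + 1) N = h θ k := fun θ k => by
    have hn := e'.inv.naturality (homOfLE (Nat.le_succ k)).op
    rw [sysOf_map_succ, H24Formal.completion_map_succ] at hn
    refine (Category.assoc _ _ _).trans ((congrArg (g θ (k + 1) ≫ ·) hn.symm).trans ?_)
    exact (Category.assoc _ _ _).symm.trans (congrArg (· ≫ e'.inv.app (op k)) (hstep θ k))
  have hkill : ∀ θ k, Formal.smulFamily (I ^ (k + 1)) M ≫ h θ k = 0 := fun θ k =>
    H24Formal.smulFamily_comp_eq_zero (h θ k) (H24Formal.killedBy_modPow I (k + 1) N)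
  let ψ : (S.pull.obj M ⟶ S.pull.obj N) → (Formal.completion I M ⟶ Formal.completion I N) := fun θ =>
    NatTrans.ofOpSequence (fun k => cokernel.desc _ (h θ k) (hkill θ k)) fun k => by
      rw [H24Formal.completion_map_succ, H24Formal.completion_map_succ]
      refine (cancel_epi (Formal.modPowπ I (k + 1 + 1) M)).1 ?_
      refine ((Category.assoc _ _ _).symm.trans (congrArg (· ≫ cokernel.desc _ (h θ k) (hkill θ k))
        (Formal.modPowπ_trans I (k + 1) M))).trans ?_
      refine (cokernel.π_desc _ _ _).trans ((hcompat θ k).symm.trans ?_)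
      exact (congrArg (· ≫ Formal.modPowTrans I (k + 1) N) (cokernel.π_desc _ _ (hkill θ (k + 1))).symm).trans
        (Category.assoc _ _ _)
  have hψ : ∀ θ k, Formal.modPowπ I (k + 1) M ≫ (ψ θ).app (op k) = h θ k := fun θ k =>
    cokernel.π_desc _ _ _
  haveI : LocallyOfFiniteType (X ↘ Spec (CommRingCat.of A)) := inferInstance
  have hu := fun θ => H24Formal.HomC.existsUnique_hom I hM hN
    ⟨(LeadProper.isClosed_support M hM.1 hM.2).inter (LeadProper.isClosed_support N hN.1 hN.2), inferInstance⟩ (ψ θ)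
  refine ⟨fun φ φ' hφ => ?_, fun θ => ?_⟩
  · refine (hu (S.pull.map φ)).unique (fun n => (hψ _ n).trans (hh φ n)) fun n => ?_
    exact (hψ _ n).trans ((congrArg (fun θ => h θ n) hφ).trans (hh φ' n))
  · obtain ⟨φ, hφ, -⟩ := hu θ
    refine ⟨φ, hinj _ _ fun k => (cancel_mono (e'.inv.app (op k))).1 ?_⟩
    exact (hh φ k).trans ((hφ k).symm.trans (hψ θ k))

end General

variable {A : Type u} [CommRing A] [IsNoetherianRing A] {I : Ideal A} [IsAdicComplete I A]
  {X : Scheme.{u}} (f : X ⟶ Spec (CommRingCat.of A)) [IsProper f] {𝓘 : X.IdealSheafData}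
  (h𝓘 : 𝓘 = (FSch.idealSpec A I).comap f) (hX : (FSch.completionAlong X 𝓘).IsFormal)

/-- The completion morphism. -/
noncomputable abbrev κ (𝓘 : X.IdealSheafData) (hX : (FSch.completionAlong X 𝓘).IsFormal) :=
  FSch.toSchemeMor (FSch.completionAlong X 𝓘) hX (FSch.completionToX X 𝓘) (FSch.completionToX_comm X 𝓘)

include f in
theorem isLocallyNoetherian : IsLocallyNoetherian X := LocallyOfFiniteType.isLocallyNoetherian f

include f in
theorem compactSpace : CompactSpace X := QuasiCompact.compactSpace_of_compactSpace f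

include f in
theorem compactSpace_completion : CompactSpace ((FSch.completionAlong X 𝓘).X 0) :=
  haveI := compactSpace f
  haveI := isLocallyNoetherian f
  haveI := isClosedImmersion_completionToX (𝓘 := 𝓘) 0
  (FSch.completionToX X 𝓘 0).isClosedEmbedding.compactSpace

include f in
theorem isLocNoeth : (FSch.completionAlong X 𝓘).IsLocNoethFormal :=
  haveI := isLocallyNoetherian f
  H24FSch.isLocNoethFormal_completionAlong X 𝓘

include f h𝓘 in
theorem bijective_pull_map_coh (M N : X.Modules) (hM : Coh.IsCoh M) (hN : Coh.IsCoh N) :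
    Function.Bijective (fun φ : M ⟶ N => (κ 𝓘 hX).pull.map φ) := by
  letI : X.Over (Spec (CommRingCat.of A)) := ⟨f⟩
  haveI : IsProper (X ↘ Spec (CommRingCat.of A)) := ‹IsProper f›
  haveI := isLocallyNoetherian f
  haveI := isClosedImmersion_completionToX (𝓘 := 𝓘)
  exact bijective_pull_map I (isLocNoeth f (𝓘 := 𝓘)) (FSch.completionToX X 𝓘)
    (FSch.completionToX_comm X 𝓘) (ker_completionToX A I f h𝓘 rfl) (FSch.complTransIso 𝓘) (fun _ => rfl) M N hM hN

include f h𝓘 in
theorem exists_coh_pull_iso (𝔉 : FSch.ModF (FSch.completionAlong X 𝓘) hX)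
    (h𝔉 : FSch.IsCohF (FSch.completionAlong X 𝓘) hX 𝔉) :
    ∃ G : X.Modules, Coh.IsCoh G ∧ Nonempty ((κ 𝓘 hX).pull.obj G ≅ 𝔉) := by
  haveI := isLocallyNoetherian f
  haveI := isClosedImmersion_completionToX (𝓘 := 𝓘)
  haveI : IsSeparated f := inferInstance
  haveI : LocallyOfFiniteType f := inferInstance
  obtain ⟨G, hG, -, ⟨e⟩⟩ := Alg.mk' A I f h𝓘 hX h𝔉 ⟨isClosed_suppC hX 𝔉, inferInstance⟩
  obtain ⟨e', -⟩ := exists_pull_iso (isLocNoeth f (𝓘 := 𝓘)) (FSch.completionToX X 𝓘)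
    (FSch.completionToX_comm X 𝓘) (FSch.complTransIso 𝓘) (fun _ => rfl) G hG
  exact ⟨G, hG, ⟨e' ≪≫ e.symm⟩⟩

include f in
theorem isFlat_κ : PreservesFiniteLimits (κ 𝓘 hX).pull := by
  haveI := isLocallyNoetherian f
  haveI := isClosedImmersion_completionToX (𝓘 := 𝓘)
  exact H24FMod.isFlat_toSchemeMor (isLocNoeth f (𝓘 := 𝓘)) (FSch.completionToX X 𝓘)
    (FSch.completionToX_comm X 𝓘) 𝓘
    (fun n V hV => ((𝓘 ^ (n + 1)).ker_subschemeι_app ⟨V, hV⟩).trans
      (by rw [Scheme.IdealSheafData.ideal_pow, Pi.pow_apply]))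

end Groth.Agent.H8FSch.Algz
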