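import Groth.Agent.H24FSch.NearIso
import Groth.Agent.H24FSch.Basic
import Groth.Agent.H24Adic.CompletionNoetherian
import Groth.Agent.H05EGA4.CTensor

/-!
# Passing to a complete base

The completion of a proper scheme over a Noetherian ring is the completion of a proper scheme over the
completed ring.
-/

set_option autoImplicit false
set_option linter.style.haveILetI false
set_option linter.unusedSectionVars false
set_option backward.isDefEq.respectTransparency false

universe u

attribute [-instance] CategoryTheory.catToReflQuiver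

open CategoryTheory CategoryTheory.Limits AlgebraicGeometry TopologicalSpace

namespace Groth.Agent.H8FSch.Algz.CompleteBase

/-- A morphism of systems which is an isomorphism on every level is an isomorphism. -/
theorem isIso_of_levels {𝔛 𝔜 : FSch.Sys.{u}} (φ : 𝔛 ⟶ 𝔜) (h : ∀ n, IsIso ((φ : FSch.Hom 𝔛 𝔜).app n)) :
    IsIso φ := by
  haveI := h
  let ψ : FSch.Hom 𝔜 𝔛 :=
    { app := fun n => inv ((φ : FSch.Hom 𝔛 𝔜).app n)
      comm := fun n => by
        rw [IsIso.inv_comp_eq, ← Category.assoc, IsIso.eq_comp_inv]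
        exact ((φ : FSch.Hom 𝔛 𝔜).comm n).symm }
  exact ⟨(ψ : 𝔜 ⟶ 𝔛), FSch.Hom.ext (funext fun n => IsIso.hom_inv_id _),
    FSch.Hom.ext (funext fun n => IsIso.inv_hom_id _)⟩

theorem ker_specMap_mk {A : Type u} [CommRing A] (J : Ideal A) :
    (Spec.map (CommRingCat.ofHom (Ideal.Quotient.mk J))).ker = FSch.idealSpec A J := rfl

/-- The completion of the base does not change the quotients. -/
theorem bijective_quotientMap {B : Type u} [CommRing B] [IsNoetherianRing B] (J : Ideal B) (m : ℕ) :
    Function.Bijective (Ideal.quotientMap ((J ^ m).map (algebraMap B (AdicCompletion J B)))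
      (algebraMap B (AdicCompletion J B)) Ideal.le_comap_map) := by
  have hJ : J.FG := IsNoetherian.noetherian J
  have hk : ∀ x, x ∈ (J ^ m).map (algebraMap B (AdicCompletion J B)) ↔ AdicCompletion.evalₐ J m x = 0 :=
    fun x => by rw [Ideal.map_pow]; exact (H05EGA4.AdicLim.ker_evalₐ hJ m x).symm
  constructor
  · rw [injective_iff_map_eq_zero]
    intro x hx
    obtain ⟨x, rfl⟩ := Ideal.Quotient.mk_surjective x
    rw [Ideal.quotientMap_mk, Ideal.Quotient.eq_zero_iff_mem, hk, H05EGA4.AdicLim.evalₐ_algebraMap] at hx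
    exact hx
  · intro z
    obtain ⟨x, rfl⟩ := Ideal.Quotient.mk_surjective z
    obtain ⟨p, hp⟩ := H24Adic.exists_sub_of_mem hJ m x
    exact ⟨Ideal.Quotient.mk _ p, (Ideal.Quotient.eq.mpr hp).symm⟩

/-- Over the quotients the completion of the base is an isomorphism. -/
theorem exists_isPullback {B : Type u} [CommRing B] [IsNoetherianRing B] (J : Ideal B) (m : ℕ) :
    ∃ (Z : Scheme.{u}) (a : Z ⟶ Spec (CommRingCat.of (AdicCompletion J B))) (b : Z ⟶ Spec (CommRingCat.of (B ⧸ J ^ m))),
      IsIso b ∧ IsPullback a b (Spec.map (CommRingCat.ofHom (algebraMap B (AdicCompletion J B))))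
        (Spec.map (CommRingCat.ofHom (Ideal.Quotient.mk (J ^ m)))) := by
  let φ := algebraMap B (AdicCompletion J B)
  let ψ := Ideal.quotientMap ((J ^ m).map φ) φ Ideal.le_comap_map
  haveI : IsIso (CommRingCat.ofHom ψ) :=
    (RingEquiv.ofBijective ψ (bijective_quotientMap J m)).toCommRingCatIso.isIso_hom
  haveI : IsClosedImmersion (Spec.map (CommRingCat.ofHom (Ideal.Quotient.mk ((J ^ m).map φ)))) :=
    IsClosedImmersion.spec_of_surjective _ Ideal.Quotient.mk_surjective
  haveI : IsClosedImmersion (Spec.map (CommRingCat.ofHom (Ideal.Quotient.mk (J ^ m)))) :=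
    IsClosedImmersion.spec_of_surjective _ Ideal.Quotient.mk_surjective
  refine ⟨_, Spec.map (CommRingCat.ofHom (Ideal.Quotient.mk ((J ^ m).map φ))), Spec.map (CommRingCat.ofHom ψ),
    inferInstance, isPullback_of_isClosedImmersion _ _ _ _ ?_ ?_⟩
  · rw [← Spec.map_comp, ← Spec.map_comp]
    rfl
  · rw [ker_specMap_mk, ker_specMap_mk, H24FSch.comap_idealSpec]

/-- The completion of a proper scheme over a Noetherian ring comes from a complete base. -/
theorem exists_complete_model (B : Type u) [CommRing B] [IsNoetherianRing B] (J : Ideal B)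
    {X : Scheme.{u}} (f : X ⟶ Spec (CommRingCat.of B)) [IsProper f]
    (𝓘 : X.IdealSheafData) (h𝓘 : 𝓘 = (FSch.idealSpec B J).comap f) :
    ∃ (A : Type u) (_ : CommRing A) (_ : IsNoetherianRing A) (I : Ideal A) (_ : IsAdicComplete I A)
      (X' : Scheme.{u}) (f' : X' ⟶ Spec (CommRingCat.of A)) (_ : IsProper f') (𝓘' : X'.IdealSheafData),
      𝓘' = (FSch.idealSpec A I).comap f' ∧
        Nonempty (FSch.completionAlong X' 𝓘' ≅ FSch.completionAlong X 𝓘) := by
  have hJ : J.FG := IsNoetherian.noetherian J
  haveI := H24Adic.isNoetherianRing_adicCompletion J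
  haveI := AdicCompletion.isAdicComplete_self J hJ
  let φ := algebraMap B (AdicCompletion J B)
  let q := Spec.map (CommRingCat.ofHom φ)
  let pr := pullback.fst f q
  let f' := pullback.snd f q
  have hsq : IsPullback pr f' f q := IsPullback.of_hasPullback f q
  haveI : IsProper f' := MorphismProperty.pullback_snd f q inferInstance
  have h' : (FSch.idealSpec (AdicCompletion J B) (J.map φ)).comap f' = 𝓘.comap pr := by
    rw [h𝓘, ← H24FSch.comap_idealSpec, ← Scheme.IdealSheafData.comap_comp, ← Scheme.IdealSheafData.comap_comp, hsq.w]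
  refine ⟨AdicCompletion J B, inferInstance, inferInstance, J.map φ, inferInstance, pullback f q, f', inferInstance,
    𝓘.comap pr, h'.symm, ?_⟩
  have hc : FSch.PowCompat pr (𝓘.comap pr) 𝓘 := fun n => (H24FSch.comap_pow' pr 𝓘 n).le
  haveI : IsIso (FSch.completionMap pr (𝓘.comap pr) 𝓘 hc) := isIso_of_levels _ fun n => by
    obtain ⟨Z, a, b, hb, hab⟩ := exists_isPullback J (n + 1)
    let sn := Spec.map (CommRingCat.ofHom (Ideal.Quotient.mk (J ^ (n + 1))))
    haveI : IsClosedImmersion sn := IsClosedImmersion.spec_of_surjective _ Ideal.Quotient.mk_surjective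
    let c := FSch.completionToX X 𝓘 n
    have hle : sn.ker ≤ (c ≫ f).ker := by
      rw [← Scheme.IdealSheafData.map_bot (f := c ≫ f), Scheme.IdealSheafData.le_map_iff_comap_le,
        Scheme.IdealSheafData.comap_comp, ker_specMap_mk, ← H24FSch.idealSpec_pow, H24FSch.comap_pow', ← h𝓘,
        ← Scheme.IdealSheafData.le_map_iff_comap_le, Scheme.IdealSheafData.map_bot]
      exact (Scheme.IdealSheafData.ker_subschemeι _).ge
    let j := IsClosedImmersion.lift sn (c ≫ f) hle
    have hj : j ≫ sn = c ≫ f := IsClosedImmersion.lift_fac sn (c ≫ f) hle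
    have h2 : IsPullback (FSch.completionToX (pullback f q) (𝓘.comap pr) n ≫ f')
        ((FSch.completionMap pr (𝓘.comap pr) 𝓘 hc : FSch.Hom _ _).app n) q (c ≫ f) :=
      (H24FSch.isPullback_completionMap pr 𝓘 hc n).paste_horiz hsq.flip
    rw [← hj] at h2
    have h3 := h2.of_right' hab
    exact MorphismProperty.of_isPullback (P := MorphismProperty.isomorphisms Scheme.{u}) h3 hb
  exact ⟨asIso (FSch.completionMap pr (𝓘.comap pr) 𝓘 hc)⟩

end Groth.Agent.H8FSch.Algz.CompleteBase
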