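import Groth.Agent.H8FSch.Algz.Nilp
import Groth.Agent.H16Derived.DerComp.Rlim

/-!
# Completeness of maps into the limit of a tower killed by powers
-/

set_option autoImplicit false
set_option linter.style.haveILetI false
set_option linter.unusedSectionVars false

universe v u r w

open CategoryTheory CategoryTheory.Limits Opposite CategoryTheory.Pretriangulated

namespace Groth.Agent.H8FSch.Algz.Tower

open H16Derived.DerCompLib

variable {R : Type r} [CommRing R] {A : Type u} [Category.{v} A] [Abelian A] [Linear R A]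

/-- Maps into the limit of a tower killed by increasing powers are complete. -/
theorem comp_hom_limit (D : ℕᵒᵖ ⥤ A) [HasLimit D] (r : R) (hk : ∀ n, r ^ (n + 1) • 𝟙 (D.obj (op n)) = 0) (G : A) :
    Comp (Preadditive.leftComp (limit D) (r • 𝟙 G)) := by
  have hpre : ∀ {Z : A} (x : G ⟶ Z), Preadditive.leftComp Z (r • 𝟙 G) x = r • x := fun x => by
    show (r • 𝟙 G) ≫ x = _
    rw [Linear.smul_comp, Category.id_comp]
  have hkill : ∀ n (x : G ⟶ D.obj (op n)), r ^ (n + 1) • x = 0 := fun n x => by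
    rw [← Category.comp_id x, ← Linear.comp_smul, hk, comp_zero]
  constructor
  · rw [injective_iff_map_eq_zero]
    intro x hx
    have hx' : ∀ i, x i = r • x (i + 1) := fun i => (sub_eq_zero.1 (congrFun hx i)).trans (hpre _)
    have hn : ∀ k i, ∃ z, x i = r ^ k • z := by
      intro k
      induction k with
      | zero => exact fun i => ⟨x i, by rw [pow_zero, one_smul]⟩
      | succ k ih =>
        intro i
        obtain ⟨z, hz⟩ := ih (i + 1)
        exact ⟨z, by rw [hx' i, hz, smul_smul, pow_succ']⟩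
    funext i
    refine limit.hom_ext fun j => ?_
    obtain ⟨j⟩ := j
    obtain ⟨z, hz⟩ := hn (j + 1) i
    rw [hz, Linear.smul_comp, hkill, Pi.zero_apply, zero_comp]
  · intro y
    let w : ℕ → ∀ n, G ⟶ D.obj (op n) := fun i n =>
      ∑ k ∈ Finset.range (n + 1), r ^ k • (y (i + k) ≫ limit.π D (op n))
    have hw : ∀ i n, w i (n + 1) ≫ D.map (homOfLE (Nat.le_succ n)).op = w i n := fun i n => by
      simp only [w, Preadditive.sum_comp, Linear.smul_comp, Category.assoc, limit.w]
      rw [Finset.sum_range_succ, hkill, add_zero]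
    have hrec : ∀ i n, w i n - r • w (i + 1) n = y i ≫ limit.π D (op n) := fun i n => by
      let a : ℕ → (G ⟶ D.obj (op n)) := fun k => r ^ k • (y (i + k) ≫ limit.π D (op n))
      have h1 : r • w (i + 1) n = ∑ k ∈ Finset.range (n + 1), a (k + 1) := by
        rw [Finset.smul_sum]
        refine Finset.sum_congr rfl fun k _ => ?_
        simp only [a, smul_smul, ← pow_succ', show i + 1 + k = i + (k + 1) by omega]
      rw [h1]
      show ∑ k ∈ Finset.range (n + 1), a k - _ = _
      rw [← Finset.sum_sub_distrib, Finset.sum_range_sub']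
      simp only [a, hkill, sub_zero, pow_zero, one_smul, add_zero]
    refine ⟨fun i => limit.lift D ⟨G, NatTrans.ofOpSequence (w i) fun n => (Category.id_comp _).trans (hw i n).symm⟩,
      funext fun i => limit.hom_ext fun j => ?_⟩
    obtain ⟨j⟩ := j
    rw [shiftSub_apply, hpre, Preadditive.sub_comp, Linear.smul_comp, limit.lift_π, limit.lift_π]
    exact hrec i j

variable [HasDerivedCategory.{w} A]

/-- Completeness at a generator with vanishing higher classes. -/
theorem compFor_single (r : R) (G M : A) (h0 : Comp (Preadditive.leftComp M (r • 𝟙 G)))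
    (hne : ∀ q : ℤ, q ≠ 0 → Subsingleton ((DerivedCategory.singleFunctor A 0).obj G ⟶
      ((DerivedCategory.singleFunctor A 0).obj M)⟦q⟧)) :
    CompFor G (r • 𝟙 G) ((DerivedCategory.singleFunctor A 0).obj M) := fun q => by
  let S := DerivedCategory.singleFunctor A 0
  rcases eq_or_ne q 0 with rfl | hq
  · let e : (G ⟶ M) ≃+ (S.obj G ⟶ (S.obj M)⟦(0 : ℤ)⟧) :=
      AddEquiv.ofBijective (AddMonoidHom.mk' (fun a => S.map a ≫ (shiftFunctorZero (DerivedCategory A) ℤ).inv.app (S.obj M))
        fun a b => by rw [Functor.map_add, Preadditive.add_comp])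
        ⟨fun a b h => S.map_injective ((cancel_mono _).1 h), fun z =>
          ⟨S.preimage (z ≫ (shiftFunctorZero (DerivedCategory A) ℤ).hom.app (S.obj M)), by
            show S.map _ ≫ _ = z
            rw [S.map_preimage, Category.assoc, Iso.hom_inv_id_app, Category.comp_id]⟩⟩
    refine (comp_iff_of_equiv e fun a => ?_).1 h0
    show S.map ((r • 𝟙 G) ≫ a) ≫ _ = S.map (r • 𝟙 G) ≫ S.map a ≫ _
    rw [Functor.map_comp, Category.assoc]
  · haveI := hne q hq
    exact ⟨fun a b _ => funext fun i => Subsingleton.elim (α := S.obj G ⟶ (S.obj M)⟦q⟧) _ _,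
      fun b => ⟨0, funext fun i => Subsingleton.elim (α := S.obj G ⟶ (S.obj M)⟦q⟧) _ _⟩⟩

/-- No maps into negative shifts. -/
theorem subsingleton_single_neg (G M : A) (q : ℤ) (hq : q < 0) :
    Subsingleton ((DerivedCategory.singleFunctor A 0).obj G ⟶ ((DerivedCategory.singleFunctor A 0).obj M)⟦q⟧) := by
  haveI : (((DerivedCategory.singleFunctor A 0).obj M)⟦q⟧).IsGE (-q) :=
    DerivedCategory.TStructure.t.isGE_shift ((DerivedCategory.singleFunctor A 0).obj M) 0 q (-q) (by omega)
  exact subsingleton_of_forall_eq 0 fun f =>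
    DerivedCategory.TStructure.t.zero_of_isLE_of_isGE f 0 (-q) (by omega) inferInstance inferInstance

/-- Completeness on maps out of every object from completeness at a separating family. -/
theorem compOn_of_separating [IsGrothendieckAbelian.{v} A] {ι : Type v} (G : ι → A)
    (hG : ∀ {X Y : A} (φ : X ⟶ Y), (∀ i (h : G i ⟶ X), h ≫ φ = 0) → φ = 0) (r : R) (M : DerivedCategory A)
    [HasProduct fun _ : ℕ => M] (h : ∀ i, CompFor (G i) (r • 𝟙 (G i)) M) (Y : DerivedCategory A) (k : ℤ) :
    Nilp.CompOn r Y (M⟦k⟧) := by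
  obtain ⟨L, a, c, hT⟩ := exists_fibre (R := R) r M
  have hL : IsZero L := isZero_of_separating hG L fun i => (compFor_smul_iff_of_triangle hT _).1 (h i)
  exact (comp_smul_iff_of_triangle hT Y).2 (fun j => ⟨fun x y => hL.eq_of_tgt x y⟩) k

/-- Transport along an isomorphism of the target. -/
theorem compOn_of_iso {r : R} {Y L L' : DerivedCategory A} (e : L ≅ L') (h : Nilp.CompOn r Y L) :
    Nilp.CompOn r Y L' :=
  (comp_iff_of_equiv (AddEquiv.mk ((Iso.refl Y).homCongr e) fun a b => by simp)
    fun a => by simp [Preadditive.leftComp]).1 h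

/-- Bounded above. -/
def BddAbove (Z : DerivedCategory A) : Prop := ∃ b : ℤ, Z.IsLE b

theorem bddAbove_iso {Z Z' : DerivedCategory A} (e : Z ≅ Z') (h : BddAbove Z) : BddAbove Z' := by
  obtain ⟨b, hb⟩ := h
  haveI : DerivedCategory.TStructure.t.IsLE Z b := hb
  exact ⟨b, DerivedCategory.TStructure.t.isLE_of_iso e b⟩

theorem bddAbove_shift {Z : DerivedCategory A} (h : BddAbove Z) (n : ℤ) : BddAbove (Z⟦n⟧) := by
  obtain ⟨b, hb⟩ := h
  haveI : DerivedCategory.TStructure.t.IsLE Z b := hb
  exact ⟨b - n, DerivedCategory.TStructure.t.isLE_shift Z b n (b - n) (by omega)⟩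

theorem bddAbove_fibre {T : Triangle (DerivedCategory A)} (hT : T ∈ distTriang (DerivedCategory A))
    (h₂ : BddAbove T.obj₂) (h₃ : BddAbove T.obj₃) : BddAbove T.obj₁ := by
  obtain ⟨b₂, hb₂⟩ := h₂
  obtain ⟨b₃, hb₃⟩ := bddAbove_shift h₃ (-1)
  let t := DerivedCategory.TStructure.t (C := A)
  haveI : t.IsLE T.obj₂ b₂ := hb₂
  haveI : t.IsLE (T.obj₃⟦(-1 : ℤ)⟧) b₃ := hb₃
  have h1 : t.IsLE (T.obj₃⟦(-1 : ℤ)⟧) (max b₂ b₃) := t.isLE_of_le _ b₃ _ (le_max_right _ _)
  have h2 : t.IsLE T.obj₂ (max b₂ b₃) := t.isLE_of_le _ b₂ _ (le_max_left _ _)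
  exact ⟨max b₂ b₃, t.isLE₂ _ (inv_rot_of_distTriang _ hT) (max b₂ b₃) h1 h2⟩

theorem bddAbove_of_isLE (Z : DerivedCategory A) (b : ℤ) [Z.IsLE b] : BddAbove Z := ⟨b, inferInstance⟩

theorem isGE_single (M : A) : ((DerivedCategory.singleFunctor A 0).obj M).IsGE 0 := inferInstance

end Groth.Agent.H8FSch.Algz.Tower
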