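import Groth.Agent.H8FSch.Algz.DerUnit
import Groth.Agent.H8FSch.Algz.Tower
import Groth.Agent.H24FMod.LimScheme
import Groth.Agent.H02CA.HTorCoh.Main

/-!
# Maps from bounded above coherent complexes into the completion of a coherent module
-/

set_option autoImplicit false
set_option linter.style.haveILetI false
set_option linter.unusedSectionVars false
set_option backward.isDefEq.respectTransparency false

universe u

attribute [-instance] CategoryTheory.catToReflQuiver

open AlgebraicGeometry CategoryTheory CategoryTheory.Limits CategoryTheory.Pretriangulated TopologicalSpace Opposite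

namespace Groth.Agent.H8FSch.Algz

open H16Derived H16Derived.DerCompLib H16Derived.DerCompLib.Null H16Derived.DerCompFF H15Site H15Site.SiteGenInst

attribute [local instance] HasDerivedCategory.standard
attribute [local instance 10000] H15Site.SiteInst.hasSheafifySite H15Site.SiteInst.hasWeakSheafifySite

section Generators

variable {X : Scheme.{u}}

/-- Free modules on affine opens separate. -/
theorem eq_zero_of_affine {M N : ModSite.Mod X.sheaf} (φ : M ⟶ N)
    (h : ∀ (V : {V : X.Opens // IsAffineOpen V}) (x : (genMod X.sheaf).G.obj V.1 ⟶ M), x ≫ φ = 0) : φ = 0 := by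
  refine (genMod X.sheaf).gen φ fun U x => ?_
  let S : Sieve U :=
    { arrows := fun W _ => ∃ V : X.Opens, IsAffineOpen V ∧ W ≤ V ∧ V ≤ U
      downward_closed := fun {W W'} _ hW g => by
        obtain ⟨V, h1, h2, h3⟩ := hW
        exact ⟨V, h1, (leOfHom g).trans h2, h3⟩ }
  have hS : S ∈ Opens.grothendieckTopology X U := fun p hp => by
    obtain ⟨_, ⟨V, hV, rfl⟩, hpV, hVU⟩ := X.isBasis_affineOpens.exists_subset_of_mem_open hp U.2
    exact ⟨V, homOfLE hVU, ⟨V, hV, le_rfl, hVU⟩, hpV⟩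
  refine (genMod X.sheaf).sep hS (x ≫ φ) fun W g hg => ?_
  obtain ⟨V, hV, hWV, hVU⟩ := hg
  rw [show g = homOfLE hWV ≫ homOfLE hVU from Subsingleton.elim _ _, Functor.map_comp, Category.assoc]
  rw [← Category.assoc ((genMod X.sheaf).G.map (homOfLE hVU)), h ⟨V, hV⟩ _, comp_zero]

/-- Bounded above with coherent cohomology. -/
def BddCoh (X : Scheme.{u}) (Z : DerivedCategory (ModSite.Mod X.sheaf)) : Prop :=
  DCoh.IsCohD (X := X) Z ∧ Tower.BddAbove Z

theorem bddCoh_iso {Z Z' : DerivedCategory (ModSite.Mod X.sheaf)} (e : Z ≅ Z') (h : BddCoh X Z) : BddCoh X Z' :=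
  ⟨Dual.isCohD_iso (X := X) e h.1, Tower.bddAbove_iso (A := ModSite.Mod X.sheaf) e h.2⟩

theorem bddCoh_shift {Z : DerivedCategory (ModSite.Mod X.sheaf)} (h : BddCoh X Z) (n : ℤ) : BddCoh X (Z⟦n⟧) :=
  ⟨Dual.isCohD_shift (X := X) h.1 n, Tower.bddAbove_shift (A := ModSite.Mod X.sheaf) h.2 n⟩

theorem isCohD_fibre [IsLocallyNoetherian X] {T : Triangle (DerivedCategory (ModSite.Mod X.sheaf))}
    (hT : T ∈ distTriang (DerivedCategory (ModSite.Mod X.sheaf))) (h₂ : DCoh.IsCohD (X := X) T.obj₂)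
    (h₃ : DCoh.IsCohD (X := X) T.obj₃) : DCoh.IsCohD (X := X) T.obj₁ :=
  Dual.isCohD_obj₂ (X := X) (inv_rot_of_distTriang _ hT) (Dual.isCohD_shift (X := X) h₃ (-1)) h₂

theorem bddCoh_fibre [IsLocallyNoetherian X] {T : Triangle (DerivedCategory (ModSite.Mod X.sheaf))}
    (hT : T ∈ distTriang (DerivedCategory (ModSite.Mod X.sheaf))) (h₂ : BddCoh X T.obj₂) (h₃ : BddCoh X T.obj₃) :
    BddCoh X T.obj₁ :=
  ⟨isCohD_fibre hT h₂.1 h₃.1, Tower.bddAbove_fibre (A := ModSite.Mod X.sheaf) hT h₂.2 h₃.2⟩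

end Generators

variable {A : Type u} [CommRing A] [IsNoetherianRing A] {I : Ideal A} [IsAdicComplete I A]
  {X : Scheme.{u}} [X.Over (Spec (CommRingCat.of A))] [IsProper (X ↘ Spec (CommRingCat.of A))]
  {𝓘 : X.IdealSheafData} (h𝓘 : 𝓘 = (FSch.idealSpec A I).comap (X ↘ Spec (CommRingCat.of A)))
  (hX : (FSch.completionAlong X 𝓘).IsFormal) [PreservesFiniteLimits (κ 𝓘 hX).pull]

include h𝓘 in
/-- Scalars in the ideal are complete on maps into the completion. -/
theorem compOn_Φ (F : X.Modules) (hF : Coh.IsCoh F) {s : A} (hs : s ∈ I)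
    (Y : DerivedCategory (ModSite.Mod X.sheaf)) (k : ℤ) :
    Nilp.CompOn (toGSec A X s) Y
      ((ΦD 𝓘 hX).obj (((DerivedCategory.singleFunctor (ModSite.Mod X.sheaf) 0).obj F)⟦k⟧)) := by
  haveI := H10Coh.isGrothendieckAbelian_sheafOfModules (ModSite.ringSh X.sheaf)
  haveI := KInjRes.hasProducts_derivedCategory (A := ModSite.Mod X.sheaf)
  obtain ⟨e⟩ := nonempty_push_pull_iso (X ↘ Spec (CommRingCat.of A)) h𝓘 hX rfl F hF
  let D : ℕᵒᵖ ⥤ ModSite.Mod X.sheaf := Formal.completion I F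
  let M := (DerivedCategory.singleFunctor (ModSite.Mod X.sheaf) 0).obj (limit D)
  have hℕ : HasLimitsOfShape (Discrete ℕ) (DerivedCategory (ModSite.Mod X.sheaf)) :=
    hasLimitsOfShape_of_equivalence (Discrete.equivalence (Equiv.ulift.{u, 0} : ULift.{u} ℕ ≃ ℕ))
  haveI : HasProduct fun _ : ℕ => M := hℕ.has_limit _
  have hcf := H24Formal.isCohFormal_completion I hF
  have hk : ∀ n, toGSec A X s ^ (n + 1) • 𝟙 (D.obj (op n)) = 0 := fun n => by
    rw [← map_pow, DerComp.smul_def, Category.comp_id, smulEnd_toGSec]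
    exact hcf.2.1 n _ (Ideal.pow_mem_pow hs _)
  have hepi : ∀ n : ℕ, Epi ((Formal.completion I F).map (homOfLE (Nat.le_succ n)).op) := fun n => by
    rw [H24Formal.completion_map_succ]
    haveI : Epi (Formal.modPowπ I (n + 1 + 1) F ≫ Formal.modPowTrans I (n + 1) F) := by
      rw [Formal.modPowπ_trans]
      exact inferInstanceAs (Epi (cokernel.π _))
    exact epi_of_epi (Formal.modPowπ I (n + 1 + 1) F) _
  have hvan : ∀ (V : {V : X.Opens // IsAffineOpen V}) (q : ℤ), q ≠ 0 →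
      Subsingleton ((DerivedCategory.singleFunctor (ModSite.Mod X.sheaf) 0).obj ((genMod X.sheaf).G.obj V.1) ⟶
        M⟦q⟧) := fun V q hq => by
    rcases lt_or_gt_of_ne hq with h | h
    · exact Tower.subsingleton_single_neg _ _ q h
    · obtain ⟨p, rfl⟩ : ∃ p : ℕ, q = ((p + 1 : ℕ) : ℤ) := ⟨q.toNat - 1, by omega⟩
      have hq' : ∀ n, Coh.IsQCoh ((Formal.completion I F).obj (op n)) := fun n => (hcf.1 n).1
      haveI := H24FMod.LimScheme.preservesLimit_sh (Formal.completion I F)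
      exact (van_mod_iff X.sheaf (p + 1) V.1 (limit D)).2
        (H24FMod.LimScheme.acyc_limit (H24FMod.LimTop.isCovering_of_isBasis X.isBasis_affineOpens) (H10Coh.shF X)
          (Formal.completion I F) (H24FMod.LimScheme.acyc_term _ hq')
          (fun V hV => H24FMod.LimScheme.surjective_trans _ hq' hepi V hV) V.1 V.2 p)
  have h := Tower.compOn_of_separating (fun V : {V : X.Opens // IsAffineOpen V} => (genMod X.sheaf).G.obj V.1)
    (fun φ hφ => eq_zero_of_affine φ hφ) (toGSec A X s) M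
    (fun V => Tower.compFor_single _ _ _ (Tower.comp_hom_limit (A := ModSite.Mod X.sheaf) D (toGSec A X s) hk _) (hvan V)) Y k
  exact Tower.compOn_of_iso ((shiftFunctor (DerivedCategory (ModSite.Mod X.sheaf)) k).mapIso
    ((DerivedCategory.singleFunctor (ModSite.Mod X.sheaf) 0).mapIso (show limit D ≅ _ from e.symm)) ≪≫
      (AbsUnit.ΦSingle (K := (κ 𝓘 hX).pull) (P := (κ 𝓘 hX).push) F k).symm) h

include h𝓘 in
/-- Completion is bijective on maps from bounded above coherent complexes into coherent modules. -/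
theorem bu_single (Y : DerivedCategory (ModSite.Mod X.sheaf)) (hY : DCoh.IsCohD (X := X) Y) (b : ℤ) [Y.IsLE b]
    (F : X.Modules) (hF : Coh.IsCoh F) (k : ℤ) :
    Nilp.BU (ηD 𝓘 hX) Y (((DerivedCategory.singleFunctor (ModSite.Mod X.sheaf) 0).obj F)⟦k⟧) := by
  haveI := isLocallyNoetherian (X ↘ Spec (CommRingCat.of A))
  obtain ⟨S, hS⟩ := (isNoetherianRing_iff_ideal_fg A).1 ‹_› I
  have hmem : ∀ g ∈ S.toList.map (toGSec A X), ∃ s ∈ I, toGSec A X s = g := fun g hg => by
    obtain ⟨s, hs, rfl⟩ := List.mem_map.1 hg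
    exact ⟨s, hS ▸ Ideal.subset_span (Finset.mem_toList.1 hs), rfl⟩
  let P : ObjectProperty (DerivedCategory (ModSite.Mod X.sheaf)) := fun Z => BddCoh X Z
  haveI : P.IsClosedUnderIsomorphisms := ⟨fun e h => bddCoh_iso e h⟩
  refine AbsUnit.bu_main (κ 𝓘 hX).adj (kappa_smul_id hX) (S.toList.map (toGSec A X))
    (fun M => DCoh.IsCohD (X := X) M) (fun M hM n => Dual.isCohD_shift hM n) (fun T hT h₂ h₃ => isCohD_fibre hT h₂ h₃)
    (fun M hM hnil => isIso_ηD_of_nil _ h𝓘 hX rfl S hS M hM hnil)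
    P (fun Z h n => bddCoh_shift h n) (fun T hT h₂ h₃ => bddCoh_fibre hT h₂ h₃) ⟨hY, Tower.bddAbove_of_isLE Y b⟩
    (Dual.isCohD_shift (H02CA.HTorCoh.isCohD_inD hF) k) (fun g hg Y' hY' => ?_) (fun g hg Y' => ?_)
  · obtain ⟨s, hs, rfl⟩ := hmem g hg
    obtain ⟨hc, b', hb'⟩ := hY'
    haveI := hb'
    haveI : ((DerivedCategory.singleFunctor (ModSite.Mod X.sheaf) 0).obj F).IsGE 0 :=
      Tower.isGE_single (A := ModSite.Mod X.sheaf) F
    exact comp_hom_coh I Y' ((DerivedCategory.singleFunctor (ModSite.Mod X.sheaf) 0).obj F) b' 0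
      hc (H02CA.HTorCoh.isCohD_inD hF) hs k
  · obtain ⟨s, hs, rfl⟩ := hmem g hg
    exact compOn_Φ h𝓘 hX F hF hs Y' k

end Groth.Agent.H8FSch.Algz
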