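import Groth.Agent.H8FSch.Algz.MapBij
import Groth.Agent.H8FSch.Algz.Nilp
import Groth.Agent.H8FSch.DCompact
import Groth.Agent.H8FSch.RpushAdjoint

/-!
# Full faithfulness of a triangulated functor: from the unit and along cells
-/

set_option autoImplicit false
set_option linter.style.haveILetI false
set_option linter.unusedSectionVars false
set_option backward.isDefEq.respectTransparency false

universe v u v' u' w w'

open CategoryTheory CategoryTheory.Limits CategoryTheory.Pretriangulated

namespace Groth.Agent.H8FSch.Algz.DFFAbs

variable {A : Type u} [Category.{v} A] [Abelian A] [HasDerivedCategory.{w} A]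
  {B : Type u'} [Category.{v'} B] [Abelian B] [HasDerivedCategory.{w'} B]

/-- Bijectivity on maps from bijectivity of the unit. -/
theorem mb_of_bu {F : DerivedCategory A ⥤ DerivedCategory B} {G : DerivedCategory B ⥤ DerivedCategory A} (adj : F ⊣ G)
    {Y L : DerivedCategory A} (h : Nilp.BU (Φ := F ⋙ G) adj.unit Y L) : MapBij.MB F Y L := by
  have he : (fun x : Y ⟶ L => F.map x) = (adj.homEquiv Y (F.obj L)).symm ∘ fun x => x ≫ adj.unit.app L := funext fun x => by
    apply (adj.homEquiv Y (F.obj L)).injective
    rw [Function.comp_apply, Equiv.apply_symm_apply, Adjunction.homEquiv_unit]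
    exact (adj.unit.naturality x).symm
  show Function.Bijective fun x : Y ⟶ L => F.map x
  rw [he]
  exact (Equiv.bijective _).comp h

/-- Cohomology of the image under an exact functor. -/
theorem nonempty_homology_map (G : A ⥤ B) [G.Additive] [PreservesFiniteLimits G] [PreservesFiniteColimits G]
    (X : DerivedCategory A) (q : ℤ) :
    Nonempty ((DerivedCategory.homologyFunctor B q).obj (G.mapDerivedCategory.obj X) ≅
      G.obj ((DerivedCategory.homologyFunctor A q).obj X)) := by
  haveI := Localization.essSurj (DerivedCategory.Q (C := A)) (HomologicalComplex.quasiIso A (ComplexShape.up ℤ))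
  let C := DerivedCategory.Q.objPreimage X
  let e : DerivedCategory.Q.obj C ≅ X := DerivedCategory.Q.objObjPreimageIso X
  let H := DerivedCategory.homologyFunctor B q
  exact ⟨H.mapIso (G.mapDerivedCategory.mapIso e.symm ≪≫ G.mapDerivedCategoryFactors.app C) ≪≫
    (DerivedCategory.homologyFunctorFactors B q).app _ ≪≫ (C.sc q).mapHomologyIso G ≪≫
      G.mapIso (((DerivedCategory.homologyFunctorFactors A q).app C).symm ≪≫
        (DerivedCategory.homologyFunctor A q).mapIso e)⟩

end Groth.Agent.H8FSch.Algz.DFFAbs
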