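import Groth.Agent.H8FSch.Algz.Core
import Groth.Agent.H8FSch.Algz.Bdd
import Groth.Agent.H8FSch.Algz.DFFAbs
import Groth.Agent.H16Derived.Thomason.Generator
import Groth.Agent.H16Derived.KFlat.PerfNoeth

/-!
# Full faithfulness of completion on complexes with quasi-coherent cohomology
-/

set_option autoImplicit false
set_option linter.style.haveILetI false
set_option linter.unusedSectionVars false
set_option backward.isDefEq.respectTransparency false

universe u

attribute [-instance] CategoryTheory.catToReflQuiver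

open AlgebraicGeometry CategoryTheory CategoryTheory.Limits CategoryTheory.Pretriangulated TopologicalSpace Opposite

namespace Groth.Agent.H8FSch.Algz

open H16Derived H15Site H15Site.SiteGenInst

attribute [local instance] HasDerivedCategory.standard
attribute [local instance 10000] H15Site.SiteInst.hasSheafifySite H15Site.SiteInst.hasWeakSheafifySite

variable {A : Type u} [CommRing A] [IsNoetherianRing A] {I : Ideal A} [IsAdicComplete I A]
  {X : Scheme.{u}} (f : X ⟶ Spec (CommRingCat.of A)) [IsProper f] {𝓘 : X.IdealSheafData}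
  (h𝓘 : 𝓘 = (FSch.idealSpec A I).comap f) (hX : (FSch.completionAlong X 𝓘).IsFormal)
  [PreservesFiniteLimits (κ 𝓘 hX).pull]

/-- The inverse image on derived categories. -/
noncomputable abbrev kD (𝓘 : X.IdealSheafData) (hX : (FSch.completionAlong X 𝓘).IsFormal)
    [PreservesFiniteLimits (κ 𝓘 hX).pull] :
    DCoh.D X ⥤ DerivedCategory (FSch.ModF (FSch.completionAlong X 𝓘) hX) := SiteCmp.pullD (κ 𝓘 hX)

/-- The inverse image on derived categories is left adjoint. -/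
theorem isLeftAdjoint_kD : (kD 𝓘 hX).IsLeftAdjoint :=
  ⟨_, ⟨ExactAdj.mapDerivedCategoryAdj (κ 𝓘 hX).adj⟩⟩

/-- A shortcut instance. -/
theorem additive_shift_modF (n : ℤ) :
    (shiftFunctor (DerivedCategory (FSch.ModF (FSch.completionAlong X 𝓘) hX)) n).Additive := inferInstance

attribute [local instance 20000] additive_shift_modF

include f h𝓘 in
theorem mb_single (Y : DCoh.D X) (hY : DCoh.IsCohD Y) (b : ℤ) [Y.IsLE b] (F : X.Modules) (hF : Coh.IsCoh F) (k : ℤ) :
    MapBij.MB (kD 𝓘 hX) Y (((DerivedCategory.singleFunctor X.Modules 0).obj F)⟦k⟧) := by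
  letI : X.Over (Spec (CommRingCat.of A)) := ⟨f⟩
  haveI : IsProper (X ↘ Spec (CommRingCat.of A)) := ‹IsProper f›
  exact DFFAbs.mb_of_bu (ExactAdj.mapDerivedCategoryAdj (κ 𝓘 hX).adj) (bu_single h𝓘 hX Y hY b F hF k)

include f h𝓘 in
/-- Bijectivity between bounded above and bounded coherent complexes. -/
theorem mbAll_coh (Y : DCoh.D X) (hY : DCoh.IsCohD Y) (b : ℤ) [Y.IsLE b] (L : DCoh.D X) (hL : DCoh.IsCohD L)
    (a c : ℤ) (ha : L.IsGE a) (hc : L.IsLE c) : MapBij.MBAll (kD 𝓘 hX) Y L := by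
  haveI := isLocallyNoetherian f
  let P : ObjectProperty X.Modules := fun M => Coh.IsCoh M
  haveI : P.IsClosedUnderIsomorphisms := ⟨fun e h => H10Coh.isCoh_of_iso e h⟩
  refine bounded_induction P (fun L => MapBij.MBAll (kD 𝓘 hX) Y L) (fun Z hz => Dual.isCoh_isZero hz)
    (fun e h => h.of_iso (Iso.refl _) e) (fun T hT h₁ h₃ => ?_) (fun Z hz k => ?_) (fun M n hM k => ?_) L a c ha hc hL
  · exact MapBij.MBAll.obj₃' (inv_rot_of_distTriang _ hT) (h₃.shift_right (-1)) h₁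
  · haveI : Subsingleton (Y ⟶ Z⟦k⟧) := ⟨fun x y => ((shiftFunctor (DCoh.D X) k).map_isZero hz).eq_of_tgt x y⟩
    haveI : Subsingleton ((kD 𝓘 hX).obj Y ⟶ (kD 𝓘 hX).obj (Z⟦k⟧)) :=
      ⟨fun x y => ((kD 𝓘 hX).map_isZero ((shiftFunctor (DCoh.D X) k).map_isZero hz)).eq_of_tgt x y⟩
    exact ⟨fun x y _ => Subsingleton.elim x y, fun y => ⟨0, Subsingleton.elim _ _⟩⟩
  · exact (mb_single f h𝓘 hX Y hY b M hM (-n + k)).of_iso (Iso.refl _)
      ((shiftFunctorAdd' (DCoh.D X) (-n) k (-n + k) rfl).app _ ≪≫ (shiftFunctor (DCoh.D X) k).mapIso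
        (((DerivedCategory.singleFunctors X.Modules).shiftIso (-n) n 0 (by omega)).app M))

include f in
theorem good_kD (h𝓘 : 𝓘 = (FSch.idealSpec A I).comap f) (E : DCoh.D X) (hE : DCoh.IsQCohD E) :
    DCompact.Good (ObjectProperty.ind.{u} (Coh (FSch.completionAlong X 𝓘) hX)) ((kD 𝓘 hX).obj E) := fun q => by
  obtain ⟨e⟩ := DFFAbs.nonempty_homology_map (κ 𝓘 hX).pull E q
  exact (ind_iff_exists_pull f h𝓘 hX _).2 ⟨_, hE q, ⟨e.symm⟩⟩

/-- The completion of the free module on an open. -/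
theorem nonempty_pull_freeSh_iso (W : X.Opens) :
    Nonempty ((κ 𝓘 hX).pull.obj (H10Coh.freeSh W) ≅ (genMod ((FSch.completionAlong X 𝓘).Osh hX)).G.obj
      ((Opens.map (FSch.completionToX X 𝓘 0).base).obj W)) := by
  let O := (FSch.completionAlong X 𝓘).Osh hX
  let W' := (Opens.map (FSch.completionToX X 𝓘 0).base).obj W
  let S := κ 𝓘 hX
  let E : ∀ N : ModSite.Mod O, (S.pull.obj (H10Coh.freeSh W) ⟶ N) ≃ ((genMod O).G.obj W' ⟶ N) := fun N =>
    ((S.adj.homEquiv _ _).trans (eMod X.sheaf W (S.push.obj N))).trans (eMod O W' N).symm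
  have hE : ∀ {N N' : ModSite.Mod O} (x : S.pull.obj (H10Coh.freeSh W) ⟶ N) (g : N ⟶ N'),
      E N' (x ≫ g) = E N x ≫ g := fun {N N'} x g => by
    apply (eMod O W' N').injective
    rw [eMod_naturality_right]
    simp only [E, Equiv.trans_apply]
    erw [Equiv.apply_symm_apply, Equiv.apply_symm_apply]
    exact (congrArg (eMod X.sheaf W (S.push.obj N')) (S.adj.homEquiv_naturality_right x g)).trans
      (eMod_naturality_right X.sheaf (S.adj.homEquiv _ _ x) (S.push.map g))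
  exact ⟨(Coyoneda.fullyFaithful.preimageIso
    (NatIso.ofComponents (fun N => (E N).toIso) (fun {N N'} g => by ext x; exact hE x g) :
      coyoneda.obj (op (S.pull.obj (H10Coh.freeSh W))) ≅ coyoneda.obj (op ((genMod O).G.obj W')))).unop.symm⟩

include f in
theorem rel_kD (h𝓘 : 𝓘 = (FSch.idealSpec A I).comap f) {K : DCoh.D X} (hK : DCoh.IsPerfect K) :
    DCompact.Rel (ObjectProperty.ind.{u} (Coh (FSch.completionAlong X 𝓘) hX)) ((kD 𝓘 hX).obj K) := by
  haveI := isLocallyNoetherian f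
  haveI := compactSpace f
  haveI := compactSpace_completion f (𝓘 := 𝓘)
  haveI : IsNoetherian X := ⟨⟩
  have hL := isLocNoeth f (𝓘 := 𝓘)
  haveI := hL.2.2 0
  haveI : IsNoetherian ((FSch.completionAlong X 𝓘).X 0) := ⟨⟩
  let R := fun K : DCoh.D X => DCompact.Rel (ObjectProperty.ind.{u} (Coh (FSch.completionAlong X 𝓘) hX)) ((kD 𝓘 hX).obj K)
  have hR : QCohD.Stable R :=
    { of_iso := fun e h => DCompact.Rel.of_iso ((kD 𝓘 hX).mapIso e) h
      shift := fun {K} h n => DCompact.Rel.of_iso (((kD 𝓘 hX).commShiftIso n).app K).symm (h.shift n)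
      ext₂ := fun T hT h₁ h₃ => DCompact.Rel.ext₃
        (inv_rot_of_distTriang _ ((kD 𝓘 hX).map_distinguished _ hT)) (h₃.shift (-1)) h₁
      of_isZero := fun {K} h n κ' Z _ _ α =>
        ⟨∅, ((shiftFunctor (DerivedCategory (FSch.ModF (FSch.completionAlong X 𝓘) hX)) n).map_isZero ((kD 𝓘 hX).map_isZero h)).eq_of_src _ _⟩ }
  refine hR.of_isPerfect (fun W hW => ?_) hK
  obtain ⟨e⟩ := nonempty_pull_freeSh_iso hX W
  exact DCompact.Rel.of_iso ((((κ 𝓘 hX).pull.mapDerivedCategorySingleFunctor 0).app _ ≪≫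
    (DerivedCategory.singleFunctor (FSch.ModF (FSch.completionAlong X 𝓘) hX) 0).mapIso e).symm)
    (rel_free_open hL _ (NoetherianSpace.isCompact _))

include f h𝓘 in
/-- Completion is fully faithful on complexes with quasi-coherent cohomology. -/
theorem mb_qcoh (E E' : DCoh.D X) (hE : DCoh.IsQCohD E) (hE' : DCoh.IsQCohD E') : MapBij.MB (kD 𝓘 hX) E E' := by
  haveI := isLocallyNoetherian f
  haveI := compactSpace f
  haveI : IsNoetherian X := ⟨⟩
  haveI := Thomason.hasCoproducts_D X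
  haveI : HasCoproducts.{u} (DerivedCategory (FSch.ModF (FSch.completionAlong X 𝓘) hX)) :=
    haveI := H10Coh.isGrothendieckAbelian_sheafOfModules (ModSite.ringSh ((FSch.completionAlong X 𝓘).Osh hX))
    KInjRes.hasCoproducts_derivedCategory
  haveI := isLeftAdjoint_kD hX (𝓘 := 𝓘)
  haveI : ∀ ι : Type u, PreservesColimitsOfShape (Discrete ι) (kD 𝓘 hX) := fun ι => inferInstance
  obtain ⟨P, hP, hgen⟩ := Thomason.hasGen (X := X) Set.univ isClosed_univ
    (by rw [Set.compl_univ]; exact isCompact_empty)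
  let PQ : DCoh.D X → Prop := Thomason.PQ (Set.univ : Set X)
  have hloc : Thomason.Loc.{u} PQ := Thomason.loc_pq isClosed_univ
  have hq : ∀ {E : DCoh.D X}, DCoh.IsQCohD E → PQ E := fun h => ⟨h, fun _ => Set.subset_univ _⟩
  let σ : ULift.{u} ℤ → DCoh.D X := fun i => P⟦i.down⟧
  have hσ : ∀ i, DCoh.IsPerfect (σ i) := fun i => KFlat.Stalk.isPerfect_shift hP.1 i.down
  haveI : ∀ (i : ULift.{u} ℤ) (Y : DCoh.D X), Small.{u} (σ i ⟶ Y) := fun i Y => Thomason.small_hom _ Y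
  have hshift : ∀ (i : ULift.{u} ℤ) (k : ℤ), ∃ j, Nonempty (σ j ≅ (σ i)⟦k⟧) := fun i k =>
    ⟨⟨i.down + k⟩, ⟨(shiftFunctorAdd (DCoh.D X) i.down k).app P⟩⟩
  have hgen' : ∀ Y, PQ Y → (∀ i (x : σ i ⟶ Y), x = 0) → IsZero Y := fun Y hY h => hgen Y hY fun n φ => h ⟨n⟩ φ
  have hcomp : ∀ i, QCohD.FinSupp.Holds.{u} PQ (σ i) := fun i =>
    Thomason.holds_of_isPerfect (fun L hL => hL.1) (hσ i)
  -- maps out of the generators
  have h1 : ∀ L, PQ L → ∀ i, MapBij.MBAll (kD 𝓘 hX) (σ i) L := by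
    intro L hL
    refine Thomason.induction σ PQ hloc (fun i => hq (Dual.isQCohD_of_isPerfect (hσ i))) hcomp hshift hgen'
      (Q := fun L => PQ L ∧ ∀ i, MapBij.MBAll (kD 𝓘 hX) (σ i) L)
      ⟨fun e h => ⟨hloc.of_iso e h.1, fun i => (h.2 i).of_iso (Iso.refl _) e⟩, fun κ' L h => ⟨hloc.sum κ' L fun j => (h j).1,
        fun i k => ?_⟩, fun T hT h₁ h₂ => ⟨hloc.cone T hT h₁.1 h₂.1, fun i => (h₁.2 i).obj₃' hT (h₂.2 i)⟩⟩
      (fun j => ⟨hq (Dual.isQCohD_of_isPerfect (hσ j)), fun i => ?_⟩) hL |>.2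
    · have hs : ∀ j, PQ ((L j)⟦k⟧) := fun j => (h j).1.shift isClosed_univ k
      have := MapBij.mb_sigma' (F := kD 𝓘 hX) (fun j => (L j)⟦k⟧) PQ
        (DCompact.Good (ObjectProperty.ind.{u} (Coh (FSch.completionAlong X 𝓘) hX)))
        (hcomp i) (QCohD.FinSupp.of_iso ((shiftFunctorZero (DerivedCategory (FSch.ModF (FSch.completionAlong X 𝓘) hX)) ℤ).app _) (rel_kD f hX h𝓘 (hσ i) 0))
        hs (fun j => good_kD f hX h𝓘 _ (hs j).1) fun j => (h j).2 i k
      exact this.of_iso (Iso.refl _) (PreservesCoproduct.iso (shiftFunctor (DCoh.D X) k) L).symm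
    · obtain ⟨hc, a, b, ha, hb⟩ := KFlat.Stalk.isCohD_and_bounded_of_isPerfect (hσ i)
      obtain ⟨hc', a', b', ha', hb'⟩ := KFlat.Stalk.isCohD_and_bounded_of_isPerfect (hσ j)
      haveI := hb
      exact mbAll_coh f h𝓘 hX (σ i) hc b (σ j) hc' a' b' ha' hb'
  -- maps out of every object
  refine MapBij.MBAll.mb ((Thomason.induction σ PQ hloc (fun i => hq (Dual.isQCohD_of_isPerfect (hσ i))) hcomp hshift hgen'
    (Q := fun E => ∀ L, PQ L → MapBij.MBAll (kD 𝓘 hX) E L)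
    ⟨fun e h L hL => (h L hL).of_iso e (Iso.refl _), fun κ' Y h L hL k => MapBij.mb_sigma Y fun j => h j L hL k,
      fun T hT h₁ h₂ L hL => (h₁ L hL).obj₃ hT (h₂ L hL)⟩
    (fun i L hL => h1 L hL i) (hq hE)) E' (hq hE'))

end Groth.Agent.H8FSch.Algz
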