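import Groth.Agent.H8FSch.Algz.TorsionUnit
import Groth.Agent.H8FSch.Algz.Nilp
import Groth.Agent.H16Derived.DerCompFF.Main
import Groth.Agent.H8FSch.Algz.AbsUnit
import Groth.Agent.H16Derived.Dual.PseudoCoh
import Groth.Prelude.Def_SiteCmp
import Mathlib.RingTheory.Ideal.Operations

/-!
# The derived unit of completion on complexes with nilpotent scalars
-/

set_option autoImplicit false
set_option linter.style.haveILetI false
set_option linter.unusedSectionVars false
set_option backward.isDefEq.respectTransparency false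

universe u

attribute [-instance] CategoryTheory.catToReflQuiver

open AlgebraicGeometry CategoryTheory CategoryTheory.Limits TopologicalSpace Opposite

namespace Groth.Agent.H8FSch.Algz

open H16Derived H16Derived.DerCompLib H16Derived.DerCompLib.Null H16Derived.DerCompFF

attribute [local instance] HasDerivedCategory.standard
attribute [local instance 10000] H15Site.SiteInst.hasSheafifySite H15Site.SiteInst.hasWeakSheafifySite

variable {A : Type u} [CommRing A] [IsNoetherianRing A] {I : Ideal A} [IsAdicComplete I A]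
  {X : Scheme.{u}} (f : X ⟶ Spec (CommRingCat.of A)) [IsProper f] {𝓘 : X.IdealSheafData}
  (h𝓘 : 𝓘 = (FSch.idealSpec A I).comap f) (hX : (FSch.completionAlong X 𝓘).IsFormal)

instance additive_push : (κ 𝓘 hX).push.Additive := additive_pP hX

instance exact_push : PreservesFiniteColimits (κ 𝓘 hX).push := preservesFiniteColimits_pP hX

instance exact_push' : PreservesFiniteLimits (κ 𝓘 hX).push := preservesFiniteLimits_pP hX

variable [PreservesFiniteLimits (κ 𝓘 hX).pull]

/-- Inverse and direct image along the completion morphism, on derived categories. -/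
noncomputable abbrev ΦD (𝓘 : X.IdealSheafData) (hX : (FSch.completionAlong X 𝓘).IsFormal)
    [PreservesFiniteLimits (κ 𝓘 hX).pull] :
    DerivedCategory (ModSite.Mod X.sheaf) ⥤ DerivedCategory (ModSite.Mod X.sheaf) :=
  AbsUnit.Φ (κ 𝓘 hX).pull (κ 𝓘 hX).push

/-- The unit. -/
noncomputable abbrev ηD (𝓘 : X.IdealSheafData) (hX : (FSch.completionAlong X 𝓘).IsFormal)
    [PreservesFiniteLimits (κ 𝓘 hX).pull] : 𝟭 _ ⟶ ΦD 𝓘 hX := AbsUnit.η (κ 𝓘 hX).adj

theorem kappa_smul_id (r : DerComp.GSec X.sheaf) (M : ModSite.Mod X.sheaf) :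
    (κ 𝓘 hX).push.map ((κ 𝓘 hX).pull.map (r • 𝟙 M)) = r • 𝟙 _ := by
  rw [DerComp.smul_def, Category.comp_id, DerComp.smul_def, Category.comp_id]
  exact kappa_smulEnd hX r M

/-- Linearity. -/
theorem ΦD_smul (r : DerComp.GSec X.sheaf) (L : DerivedCategory (ModSite.Mod X.sheaf)) :
    (ΦD 𝓘 hX).map (r • 𝟙 L) = r • 𝟙 ((ΦD 𝓘 hX).obj L) :=
  AbsUnit.map_smul_id (kappa_smul_id hX) r L

variable [X.Over (Spec (CommRingCat.of A))] (hf : X ↘ Spec (CommRingCat.of A) = f)

variable (A X) in
/-- The annihilator of a module in the base. -/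
noncomputable def annA (M : ModSite.Mod X.sheaf) : Ideal A :=
  Ideal.comap (toGSec A X) (LinearMap.toSpanSingleton (DerComp.GSec X.sheaf) (M ⟶ M) (𝟙 M)).ker

include f h𝓘 hf in
/-- The unit on complexes with coherent cohomology on which the generators are nilpotent. -/
theorem isIso_ηD_of_nil (S : Finset A) (hS : Ideal.span (S : Set A) = I)
    (L : DerivedCategory (ModSite.Mod X.sheaf)) (hL : DCoh.IsCohD (X := X) L)
    (hnil : ∀ g ∈ S.toList.map (toGSec A X), Nilp.Nil g L) : IsIso ((ηD 𝓘 hX).app L) := by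
  refine AbsUnit.isIso_η (κ 𝓘 hX).adj L fun i => ?_
  let H : ModSite.Mod X.sheaf := (DerivedCategory.homologyFunctor (ModSite.Mod X.sheaf) i).obj L
  have hle : I ≤ (annA A X H).radical := by
    rw [← hS, Ideal.span_le]
    intro a ha
    obtain ⟨N, hN⟩ := (hnil (toGSec A X a) (List.mem_map.2 ⟨a, Finset.mem_toList.2 ha, rfl⟩)).homology i
    refine ⟨N, ?_⟩
    show toGSec A X (a ^ N) • 𝟙 H = 0
    rw [map_pow]
    exact hN
  obtain ⟨k, hk⟩ := Ideal.exists_pow_le_of_le_radical_of_fg hle (IsNoetherian.noetherian I)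
  refine isIso_unit_of_killed f h𝓘 hX hf H (hL i) k fun a ha => ?_
  rw [← smulEnd_toGSec]
  have h0 : toGSec A X a • 𝟙 H = 0 := hk (Ideal.pow_le_pow_right k.le_succ ha)
  rw [DerComp.smul_def, Category.comp_id] at h0
  exact h0

end Groth.Agent.H8FSch.Algz
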