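import Groth.Agent.H8FSch.Algz.EssAbs
import Groth.Agent.H8FSch.DCompact
import Groth.Agent.H16Derived.WayOut

/-!
# Essential surjectivity of a fully faithful exact functor onto complexes with good cohomology
-/

set_option autoImplicit false
set_option linter.style.haveILetI false
set_option linter.unusedSectionVars false
set_option backward.isDefEq.respectTransparency false

universe u v u'

open CategoryTheory CategoryTheory.Limits CategoryTheory.Pretriangulated DerivedCategory.TStructure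

namespace Groth.Agent.H8FSch.Algz.EssMain

open H16Derived

attribute [local instance] HasDerivedCategory.standard

variable {A : Type u'} [Category.{u} A] [Abelian A]
  {B : Type v} [Category.{u} B] [Abelian B]
  [HasCoproducts.{u} (DerivedCategory A)] [HasCoproducts.{u} (DerivedCategory B)]
  (G : A ⥤ B) [G.Additive] [PreservesFiniteLimits G] [PreservesFiniteColimits G]
  [∀ κ : Type u, PreservesColimitsOfShape (Discrete κ) G.mapDerivedCategory]
  (Q : DerivedCategory A → Prop) (hQ : Thomason.Loc.{u} Q) (hQs : ∀ E, Q E → ∀ n : ℤ, Q (E⟦n⟧))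
  (ind : ObjectProperty B) [ind.IsClosedUnderIsomorphisms] (hind0 : ∀ Z, IsZero Z → ind Z)
  (hgoodloc : Thomason.Loc.{u} (DCompact.Good ind))
  (hmb : ∀ E E', Q E → Q E' → MapBij.MB G.mapDerivedCategory E E')
  (hbdd : ∀ Z, DCompact.Good ind Z → ∀ a b : ℤ, Z.IsGE a → Z.IsLE b → EssAbs.Im G.mapDerivedCategory Q Z)
  {P : DerivedCategory A} (hP : Q P)

include hQs hind0 hmb hbdd hP in
/-- Bounded below orthogonal complexes vanish. -/
theorem isZero_below (b : ℤ) (hb : 1 ≤ b) [P.IsLE b] (N : ℕ)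
    (hN : ∀ E, Q E → (∀ n : ℤ, n ≤ 0 → ∀ φ : P ⟶ E⟦n⟧, φ = 0) → ∀ j : ℤ, j ≤ -(N : ℤ) →
      IsZero ((DerivedCategory.homologyFunctor A j).obj E))
    {C : DerivedCategory B} (hC : DCompact.Good ind C) (a : ℤ) [C.IsGE a]
    (hCo : ∀ (n : ℤ) (x : G.mapDerivedCategory.obj P ⟶ C⟦n⟧), x = 0) : IsZero C := by
  haveI := EssAbs.isLE_map G P b
  refine EssAbs.isZero_of_homology C fun q => ?_
  let M : ℤ := q + b + N
  let Z := (t.truncLT M).obj C
  obtain ⟨E, hE, ⟨e⟩⟩ := hbdd Z (WayOut.p_truncLT ind hind0 hC M) a (M - 1) (DTrunc.isGE_truncLT C M a)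
    (inferInstanceAs (t.IsLE ((t.truncLT M).obj C) (M - 1)))
  have hEo : ∀ n, n ≤ M - b → ∀ φ : P ⟶ E⟦n⟧, φ = 0 := fun n hn =>
    EssAbs.eq_zero_of_im e n (hmb _ _ hP (hQs E hE n)) (EssAbs.orth_truncLT b hCo M n hn)
  have hEK := hN (E⟦M - b⟧) (hQs E hE _) (fun n hn φ => (cancel_mono
    ((shiftFunctorAdd' (DerivedCategory A) (M - b) n (M - b + n) rfl).inv.app E)).1
      ((hEo _ (by omega) _).trans zero_comp.symm)) (q - (M - b)) (by omega)
  have h1 : IsZero ((DerivedCategory.homologyFunctor A q).obj E) :=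
    hEK.of_iso (((DerivedCategory.homologyFunctor A 0).shiftIso (M - b) (q - (M - b)) q (by omega)).app E).symm
  obtain ⟨eh⟩ := DFFAbs.nonempty_homology_map G E q
  haveI := DTrunc.isIso_homology_truncLTι C M q (by omega)
  exact (G.map_isZero h1).of_iso
    ((asIso ((DerivedCategory.homologyFunctor B q).map ((t.truncLTι M).app C))).symm ≪≫
      (DerivedCategory.homologyFunctor B q).mapIso e.symm ≪≫ eh)

include hQ hQs hind0 hgoodloc hmb hbdd hP in
/-- Complexes with good cohomology are in the image. -/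
theorem main (b₀ : ℤ) [P.IsLE b₀] (c₀ : ℤ)
    (hvan : ∀ Z, DCompact.Good ind Z → ∀ e : ℤ, (∀ q, e < q → IsZero ((DerivedCategory.homologyFunctor B q).obj Z)) →
      ∀ n : ℤ, e + c₀ < n → ∀ z : G.mapDerivedCategory.obj P ⟶ Z⟦n⟧, z = 0)
    (N : ℕ) (hN : ∀ E, Q E → (∀ n : ℤ, 0 ≤ n → ∀ φ : P ⟶ E⟦n⟧, φ = 0) → ∀ j : ℤ, (N : ℤ) ≤ j →
      IsZero ((DerivedCategory.homologyFunctor A j).obj E))
    (N' : ℕ) (hN' : ∀ E, Q E → (∀ n : ℤ, n ≤ 0 → ∀ φ : P ⟶ E⟦n⟧, φ = 0) → ∀ j : ℤ, j ≤ -(N' : ℤ) →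
      IsZero ((DerivedCategory.homologyFunctor A j).obj E))
    (hbnd : ∀ E, Q E → ∀ n₀ : ℤ, (∀ n, n ≤ n₀ → ∀ φ : P ⟶ E⟦n⟧, φ = 0) → ∃ a : ℤ, E.IsGE a)
    (hgoodP : DCompact.Good ind (G.mapDerivedCategory.obj P))
    (hrel : ∀ n : ℤ, QCohD.FinSupp.Holds.{u} (DCompact.Good ind) ((G.mapDerivedCategory.obj P)⟦n⟧))
    (hsmall : ∀ Y Z : DerivedCategory B, Small.{u} (Y ⟶ Z))
    {W : DerivedCategory B} (hW : DCompact.Good ind W) : EssAbs.Im G.mapDerivedCategory Q W := by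
  let b : ℤ := max b₀ 1
  let c : ℤ := max c₀ 1
  haveI hPb : P.IsLE b := haveI : t.IsLE P b₀ := ‹P.IsLE b₀›; t.isLE_of_le P b₀ b (le_max_left _ _)
  let FP := G.mapDerivedCategory.obj P
  haveI : FP.IsLE b := EssAbs.isLE_map G P b
  let σ : ULift.{u} ℤ → DerivedCategory B := fun i => FP⟦i.down⟧
  haveI : ∀ (i : ULift.{u} ℤ) (Y : DerivedCategory B), Small.{u} (σ i ⟶ Y) := fun i Y => hsmall _ Y
  have hshift : ∀ (i : ULift.{u} ℤ) (k : ℤ), ∃ j, Nonempty (σ j ≅ (σ i)⟦k⟧) := fun i k =>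
    ⟨⟨i.down + k⟩, ⟨(shiftFunctorAdd (DerivedCategory B) i.down k).app FP⟩⟩
  have hlocI : Thomason.Loc.{u} (EssAbs.Im G.mapDerivedCategory Q) := EssAbs.loc_im hQ hmb
  have himσ : ∀ i, EssAbs.Im G.mapDerivedCategory Q (σ i) := fun i =>
    (EssAbs.Im.of_obj (F := G.mapDerivedCategory) (P := Q) hP).shift hQs i.down
  have hgood : ∀ i, DCompact.Good ind (σ i) := fun i q =>
    ind.prop_of_iso (((DerivedCategory.homologyFunctor B 0).shiftIso i.down q (i.down + q) rfl).app FP).symm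
      (hgoodP (i.down + q))
  have hcomp : ∀ i, QCohD.FinSupp.Holds.{u} (DCompact.Good ind) (σ i) := fun i => hrel i.down
  have horth : ∀ C, (∀ i (x : σ i ⟶ C), x = 0) → ∀ (n : ℤ) (x : FP ⟶ C⟦n⟧), x = 0 := fun C h n =>
    (EssAbs.forall_shift_neg_iff FP C n).1 (h ⟨-n⟩)
  have hbelow : ∀ Z, DCompact.Good ind Z → ∀ a : ℤ, Z.IsGE a → EssAbs.Im G.mapDerivedCategory Q Z := by
    intro Z hZ a ha
    obtain ⟨S, hS⟩ := Thomason.exists_tel σ (hgoodloc.inter hlocI) (fun i => ⟨hgood i, himσ i⟩) Z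
    obtain ⟨F', e, hF, hbij⟩ := S.exists_colim (DCompact.Good ind) (hgoodloc.inter hlocI) hS hcomp
      (fun n => (hS n).1) hshift
    obtain ⟨C, g, δ, hT⟩ := distinguished_cocone_triangle e
    suffices hC : IsZero C by
      haveI : IsIso e := (Triangle.isZero₃_iff_isIso₁ _ hT).1 hC
      exact hF.2.of_iso (asIso e)
    obtain ⟨E, hE, ⟨ε⟩⟩ := hF.2
    haveI hZa : t.IsGE Z a := ha
    have hev : ∀ n, n ≤ a - b - 1 → ∀ φ : P ⟶ E⟦n⟧, φ = 0 := fun n hn => by
      refine EssAbs.eq_zero_of_im ε n (hmb _ _ hP (hQs E hE n)) fun x => ?_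
      haveI : t.IsGE (Z⟦n⟧) (a - n) := t.isGE_shift Z a n (a - n) (by omega)
      haveI : t.IsLE FP b := ‹FP.IsLE b›
      have hx : x ≫ e⟦n⟧' = 0 := t.zero (x ≫ e⟦n⟧') b (a - n) (by omega)
      refine ((EssAbs.forall_shift_neg_iff FP F' n).1 fun φ => (hbij ⟨-n⟩).1 ?_) x
      show φ ≫ e = (0 : σ ⟨-n⟩ ⟶ F') ≫ e
      rw [zero_comp]
      exact (EssAbs.forall_shift_neg_iff FP Z n).2 (fun y => t.zero y b (a - n) (by omega)) (φ ≫ e)
    obtain ⟨a', ha'⟩ := hbnd E hE _ hev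
    haveI := ha'
    haveI : t.IsGE (G.mapDerivedCategory.obj E) a' := EssAbs.isGE_map G E a'
    haveI : t.IsGE F' a' := t.isGE_of_iso ε a'
    haveI : C.IsGE (min a (a' - 1)) := by
      refine t.isGE₂ _ (rot_of_distTriang _ hT) _ (t.isGE_of_ge Z _ a (min_le_left _ _)) ?_
      haveI : t.IsGE (F'⟦(1 : ℤ)⟧) (a' - 1) := t.isGE_shift F' a' 1 (a' - 1) (by omega)
      exact t.isGE_of_ge (F'⟦(1 : ℤ)⟧) _ (a' - 1) (min_le_right _ _)
    exact isZero_below G Q hQs ind hind0 hmb hbdd hP b (le_max_right _ _) N' hN' (hgoodloc.cone _ hT hF.1 hZ)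
      (min a (a' - 1)) (horth C (EssAbs.orth_cone σ hshift hT hbij))
  have hzero : ∀ C, DCompact.Good ind C → (∀ i (x : σ i ⟶ C), x = 0) → IsZero C := by
    intro C hC hCσ
    refine EssAbs.isZero_of_homology C fun q => ?_
    let m : ℤ := q - c - N
    obtain ⟨E, hE, ⟨e⟩⟩ := hbelow ((t.truncGE m).obj C) (WayOut.p_truncGE ind hind0 hC m) m
      (inferInstanceAs (t.IsGE ((t.truncGE m).obj C) m))
    haveI : DerivedCategory.IsLE ((t.truncLT m).obj C) (m - 1) :=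
      inferInstanceAs (t.IsLE ((t.truncLT m).obj C) (m - 1))
    have hlow : ∀ n, m + c - 1 < n → ∀ y : FP ⟶ ((t.truncLT m).obj C)⟦n⟧, y = 0 := fun n hn =>
      hvan _ (WayOut.p_truncLT ind hind0 hC m) (m - 1)
        (fun i hi => DerivedCategory.isZero_of_isLE _ (m - 1) i hi) n
        (by have := le_max_left c₀ 1; omega)
    have hEo : ∀ n, m + c - 1 ≤ n → ∀ φ : P ⟶ E⟦n⟧, φ = 0 := fun n hn =>
      EssAbs.eq_zero_of_im e n (hmb _ _ hP (hQs E hE n))
        (EssAbs.orth_truncGE (horth C hCσ) m (m + c - 1) hlow n hn)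
    have hEK := hN (E⟦m + c - 1⟧) (hQs E hE _) (fun n hn φ => (cancel_mono
      ((shiftFunctorAdd' (DerivedCategory A) (m + c - 1) n (m + c - 1 + n) rfl).inv.app E)).1
        ((hEo _ (by omega) _).trans zero_comp.symm)) (q - (m + c - 1)) (by omega)
    have h1 : IsZero ((DerivedCategory.homologyFunctor A q).obj E) :=
      hEK.of_iso (((DerivedCategory.homologyFunctor A 0).shiftIso (m + c - 1) (q - (m + c - 1)) q (by omega)).app E).symm
    obtain ⟨eh⟩ := DFFAbs.nonempty_homology_map G E q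
    haveI := DTrunc.isIso_homology_truncGEπ C m q (by have := le_max_right c₀ 1; omega)
    exact (G.map_isZero h1).of_iso
      (asIso ((DerivedCategory.homologyFunctor B q).map ((t.truncGEπ m).app C)) ≪≫
        (DerivedCategory.homologyFunctor B q).mapIso e.symm ≪≫ eh)
  exact Thomason.induction σ (DCompact.Good ind) hgoodloc hgood hcomp hshift hzero hlocI himσ hW

end Groth.Agent.H8FSch.Algz.EssMain
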