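import Groth.Agent.H8FSch.Algz.DFF
import Groth.Agent.H8FSch.Algz.EssMain
import Groth.Agent.H8FSch.GlobalBound
import Groth.Agent.H8FSch.WeakSerre
import Groth.Agent.H8FSch.DAdjoint
import Groth.Agent.H15Site.CohInTri
import Groth.Agent.H16Derived.TorTest.RpushAmp
import Groth.Agent.H24FMod.Algebraize

/-!
# The essential image of completion on complexes with quasi-coherent cohomology
-/

set_option autoImplicit false
set_option linter.style.haveILetI false
set_option linter.unusedSectionVars false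
set_option backward.isDefEq.respectTransparency false

universe u

attribute [-instance] CategoryTheory.catToReflQuiver

open AlgebraicGeometry CategoryTheory CategoryTheory.Limits CategoryTheory.Pretriangulated TopologicalSpace Opposite

namespace Groth.Agent.H8FSch.Algz

open H16Derived H15Site H15Site.SiteGenInst DerivedCategory.TStructure ZeroObject

attribute [local instance] HasDerivedCategory.standard
attribute [local instance 10000] H15Site.SiteInst.hasSheafifySite H15Site.SiteInst.hasWeakSheafifySite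

section Uniform

variable {X : Scheme.{u}} [CompactSpace X] [QuasiSeparatedSpace X]

attribute [local instance] Thomason.hasCoproducts_D

/-- A uniform version of the detection of boundedness by a generator. -/
theorem uniform_bnd {l : Filter ℤ} (hl : l = Filter.atTop ∨ l = Filter.atBot) {G : DCoh.D X}
    (hG : DCoh.IsPerfect G)
    (hgen : ∀ E : DCoh.D X, DCoh.IsQCohD E → (∀ (n : ℤ) (φ : G⟦n⟧ ⟶ E), φ = 0) → IsZero E)
    {S : Set ℤ} (hS : S ∈ l) (T : ℕ → Set ℤ) (hT : ∀ s ∈ l, ∃ N, T N ⊆ s) :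
    ∃ N : ℕ, ∀ E : DCoh.D X, DCoh.IsQCohD E → (∀ n ∈ S, ∀ φ : G ⟶ E⟦n⟧, φ = 0) →
      ∀ j ∈ T N, IsZero (DCoh.HD E j) := by
  classical
  by_contra hc
  push Not at hc
  choose E hE hv j hj hne using hc
  let Y : ULift.{u} ℕ → DCoh.D X := fun k => E k.down
  have hQ : DCoh.IsQCohD (∐ Y) := ((Thomason.loc_pq (X := X) isClosed_univ).sum _ Y
    fun k => ⟨hE k.down, fun _ => Set.subset_univ _⟩).1
  have hEv : Thomason.Ev l G (∐ Y) := by
    refine Filter.eventually_iff.2 (Filter.mem_of_superset hS fun n hn => ?_)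
    refine (Thomason.forall_shift_neg_iff G (∐ Y) n).1 fun φ => ?_
    obtain ⟨s, hs⟩ := Thomason.holds_of_isPerfect (P := fun L : DCoh.D X => DCoh.IsQCohD L) (fun _ h => h)
      (KFlat.Stalk.isPerfect_shift hG (-n)) (ULift.{u} ℕ) Y (fun k => hE k.down) φ
    rw [Thomason.eq_sum_ι Y φ s hs]
    exact Finset.sum_eq_zero fun k _ => by
      rw [(Thomason.forall_shift_neg_iff G (E k.down) n).2 (hv k.down n hn) (φ ≫ _), zero_comp]
  have hb : Thomason.Bnd l (∐ Y) := (Thomason.bnd_iff_ev hl hG hgen hQ).2 hEv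
  obtain ⟨N, hN⟩ := hT _ hb
  refine hne N ((IsZero.iff_id_eq_zero _).2 ?_)
  have h0 : IsZero (DCoh.HD (∐ Y) (j N)) := hN (hj N)
  have hι : Sigma.ι Y ⟨N⟩ ≫ QCohD.FinSupp.proj Y ⟨N⟩ = 𝟙 (Y ⟨N⟩) := by simp [QCohD.FinSupp.proj]
  have := congrArg (DerivedCategory.homologyFunctor X.Modules (j N)).map hι
  rw [Functor.map_comp, CategoryTheory.Functor.map_id] at this
  refine this.symm.trans ?_
  rw [h0.eq_of_tgt ((DerivedCategory.homologyFunctor X.Modules (j N)).map (Sigma.ι Y ⟨N⟩)) 0, zero_comp]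

end Uniform

variable {A : Type u} [CommRing A] [IsNoetherianRing A] {I : Ideal A} [IsAdicComplete I A]
  {X : Scheme.{u}} (f : X ⟶ Spec (CommRingCat.of A)) [IsProper f] {𝓘 : X.IdealSheafData}
  (h𝓘 : 𝓘 = (FSch.idealSpec A I).comap f) (hX : (FSch.completionAlong X 𝓘).IsFormal)
  [PreservesFiniteLimits (κ 𝓘 hX).pull]

attribute [local instance 20000] additive_shift_modF

/-- Complexes with ind-coherent cohomology. -/
abbrev GoodX (𝓘 : X.IdealSheafData) (hX : (FSch.completionAlong X 𝓘).IsFormal)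
    (Z : DerivedCategory (FSch.ModF (FSch.completionAlong X 𝓘) hX)) : Prop :=
  DCompact.Good (ObjectProperty.ind.{u} (Coh (FSch.completionAlong X 𝓘) hX)) Z

include f in
theorem exists_affine_sieve_completion (W : X.Opens) (hW : IsAffineOpen W) :
    ∃ d : ℕ, ∀ F : FSch.ModF (FSch.completionAlong X 𝓘) hX,
      ObjectProperty.ind.{u} (Coh (FSch.completionAlong X 𝓘) hX) F → ∀ k : ℕ, d < k →
        Subsingleton (ModSite.HU ((FSch.completionAlong X 𝓘).Osh hX) F k
          ((Opens.map (FSch.completionToX X 𝓘 0).base).obj W)) := by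
  haveI := isLocallyNoetherian f
  haveI := compactSpace_completion f (𝓘 := 𝓘)
  have hL := isLocNoeth f (𝓘 := 𝓘)
  haveI := hL.2.2 0
  haveI : IsNoetherian ((FSch.completionAlong X 𝓘).X 0) := ⟨⟩
  obtain ⟨d, hd⟩ := exists_bound_HU hL (fun _ : PUnit.{1} => (⊤ : ((FSch.completionAlong X 𝓘).X 0).Opens))
    ((Opens.map (FSch.completionToX X 𝓘 0).base).obj W) (NoetherianSpace.isCompact _)
    fun T hT _ _ => by rwa [inf_top_eq]
  exact ⟨d, fun F hF k hk => (inf_top_eq ((Opens.map (FSch.completionToX X 𝓘 0).base).obj W)) ▸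
    hd F hF PUnit.unit k hk⟩

/-- Good complexes bounded above by `e`. -/
def GoodLE (𝓘 : X.IdealSheafData) (hX : (FSch.completionAlong X 𝓘).IsFormal)
    (Z : DerivedCategory (FSch.ModF (FSch.completionAlong X 𝓘) hX)) (e : ℤ) : Prop :=
  GoodX 𝓘 hX Z ∧ ∀ q, e < q →
    IsZero ((DerivedCategory.homologyFunctor (FSch.ModF (FSch.completionAlong X 𝓘) hX) q).obj Z)

include f in
/-- Maps out of the completion of a perfect complex have bounded cohomological dimension. -/
theorem van_of_isPerfect {K : DCoh.D X} (hK : DCoh.IsPerfect K) : EssAbs.VanP (kD 𝓘 hX) (GoodLE 𝓘 hX) K := by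
  haveI := isLocallyNoetherian f
  haveI := compactSpace f
  haveI : IsNoetherian X := ⟨⟩
  have hL := isLocNoeth f (𝓘 := 𝓘)
  have hS : QCohD.Stable (EssAbs.VanP (kD 𝓘 hX) (GoodLE 𝓘 hX)) :=
    { of_iso := fun e h => EssAbs.VanP.of_iso e h
      shift := fun h k => EssAbs.VanP.shift h k
      ext₂ := fun T hT h₁ h₃ => EssAbs.VanP.obj₂ hT h₁ h₃
      of_isZero := fun h => EssAbs.VanP.of_isZero h }
  refine hS.of_isPerfect (fun W hW => ?_) hK
  obtain ⟨d, hd⟩ := exists_affine_sieve_completion f hX (𝓘 := 𝓘) W hW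
  obtain ⟨e⟩ := nonempty_pull_freeSh_iso hX (𝓘 := 𝓘) W
  refine ⟨d, fun Z m hZ n hn z => ?_⟩
  let ε := ((κ 𝓘 hX).pull.mapDerivedCategorySingleFunctor 0).app (H10Coh.freeSh W) ≪≫
    (DerivedCategory.singleFunctor (FSch.ModF (FSch.completionAlong X 𝓘) hX) 0).mapIso e
  exact (cancel_epi ε.inv).1 ((eq_zero_of_bound hL Z hZ.1 _ d hd m hZ.2 n (by omega) (ε.inv ≫ z)).trans comp_zero.symm)

include f in
theorem good_shift {Z : DerivedCategory (FSch.ModF (FSch.completionAlong X 𝓘) hX)} (h : GoodX 𝓘 hX Z) (n : ℤ) :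
    GoodX 𝓘 hX (Z⟦n⟧) := fun i =>
  (ObjectProperty.ind.{u} (Coh (FSch.completionAlong X 𝓘) hX)).prop_of_iso
    (((DerivedCategory.homologyFunctor (FSch.ModF (FSch.completionAlong X 𝓘) hX) 0).shiftIso n i (n + i) rfl).app Z).symm
    (h (n + i))

include f in
theorem loc_good : haveI : HasCoproducts.{u} (DerivedCategory (FSch.ModF (FSch.completionAlong X 𝓘) hX)) :=
      haveI := H10Coh.isGrothendieckAbelian_sheafOfModules (ModSite.ringSh ((FSch.completionAlong X 𝓘).Osh hX))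
      KInjRes.hasCoproducts_derivedCategory
    Thomason.Loc.{u} (GoodX 𝓘 hX) := by
  haveI := H10Coh.isGrothendieckAbelian_sheafOfModules (ModSite.ringSh ((FSch.completionAlong X 𝓘).Osh hX))
  haveI : HasCoproducts.{u} (DerivedCategory (FSch.ModF (FSch.completionAlong X 𝓘) hX)) :=
    KInjRes.hasCoproducts_derivedCategory
  haveI := isLocallyNoetherian f
  haveI := compactSpace_completion f (𝓘 := 𝓘)
  have hL := isLocNoeth f (𝓘 := 𝓘)
  haveI := isWeakSerre_ind hL
  exact { of_iso := fun e h q => (ObjectProperty.ind.{u} (Coh (FSch.completionAlong X 𝓘) hX)).prop_of_iso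
            ((DerivedCategory.homologyFunctor (FSch.ModF (FSch.completionAlong X 𝓘) hX) q).mapIso e) (h q)
          sum := fun κ' Z h => DCompact.good_sigma (ind_sigma hL) Z h
          cone := fun T hT h₁ h₂ => H15Site.CohInTri.cohIn_obj₂ (ObjectProperty.ind.{u} (Coh (FSch.completionAlong X 𝓘) hX))
            T.rotate (rot_of_distTriang _ hT) h₂ (good_shift f hX h₁ 1) }

/-- Complexes with quasi-coherent cohomology form a localizing class. -/
theorem loc_qc (X : Scheme.{u}) :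
    haveI := Thomason.hasCoproducts_D X
    Thomason.Loc.{u} (fun E : DCoh.D X => DCoh.IsQCohD E) := by
  haveI := Thomason.hasCoproducts_D X
  exact { of_iso := fun e h => QCohD.isQCohD_iso e h
          sum := fun κ' Y h =>
            ((Thomason.loc_pq (X := X) isClosed_univ).sum κ' Y fun k => ⟨h k, fun _ => Set.subset_univ _⟩).1
          cone := fun T hT h₁ h₂ => QCohD.AffineUnit.isQCohD_obj₃ hT h₁ h₂ }

theorem qc_shift {X : Scheme.{u}} (E : DCoh.D X) (hE : DCoh.IsQCohD E) (n : ℤ) : DCoh.IsQCohD (E⟦n⟧) :=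
  (Thomason.PQ.shift (T := Set.univ) isClosed_univ ⟨hE, fun _ => Set.subset_univ _⟩ n).1

include f h𝓘 in
/-- Bounded complexes with ind-coherent cohomology are completions. -/
theorem im_of_bounded (Z : DerivedCategory (FSch.ModF (FSch.completionAlong X 𝓘) hX)) (hZ : GoodX 𝓘 hX Z)
    (a b : ℤ) (ha : Z.IsGE a) (hb : Z.IsLE b) :
    EssAbs.Im (kD 𝓘 hX) (fun E : DCoh.D X => DCoh.IsQCohD E) Z := by
  haveI := isLocallyNoetherian f
  haveI := compactSpace f
  haveI : IsNoetherian X := ⟨⟩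
  haveI := compactSpace_completion f (𝓘 := 𝓘)
  have hL := isLocNoeth f (𝓘 := 𝓘)
  haveI := isWeakSerre_ind hL
  haveI := Thomason.hasCoproducts_D X
  refine bounded_induction (ObjectProperty.ind.{u} (Coh (FSch.completionAlong X 𝓘) hX))
    (EssAbs.Im (kD 𝓘 hX) (fun E : DCoh.D X => DCoh.IsQCohD E))
    (fun Y hY => (ObjectProperty.ind.{u} (Coh (FSch.completionAlong X 𝓘) hX)).prop_of_iso
      ((isZero_zero _).iso hY) (ObjectProperty.prop_zero _))
    (fun e h => h.of_iso e)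
    (fun T hT h₁ h₃ => EssAbs.Im.obj₂ (loc_qc X).cone qc_shift
      (fun E E' h h' => mb_qcoh f h𝓘 hX E E' h h') hT h₁ h₃)
    (fun Y hY => ⟨(0 : DCoh.D X), Dual.isQCohD_of_isPerfect (Thomason.isPerfect_zero (isZero_zero _)),
      ⟨((kD 𝓘 hX).map_isZero (isZero_zero _)).iso hY⟩⟩)
    (fun M n hM => ?_) Z a b ha hb hZ
  obtain ⟨G, hG, ⟨e⟩⟩ := (ind_iff_exists_pull f h𝓘 hX M).1 hM
  exact ⟨(DerivedCategory.singleFunctor X.Modules n).obj G,
    (loc_qc X).of_iso (((DerivedCategory.singleFunctors X.Modules).shiftIso (-n) n 0 (by omega)).app G)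
      (qc_shift _ (TorTest.isQCohD_inD hG) (-n)),
    ⟨((κ 𝓘 hX).pull.mapDerivedCategorySingleFunctor n).app G ≪≫
      (DerivedCategory.singleFunctor (FSch.ModF (FSch.completionAlong X 𝓘) hX) n).mapIso e⟩⟩

include f h𝓘 in
/-- A complex with ind-coherent cohomology is the completion of a complex with quasi-coherent cohomology. -/
theorem exists_iso_of_good {W₀ : DerivedCategory (FSch.ModF (FSch.completionAlong X 𝓘) hX)} (hW₀ : GoodX 𝓘 hX W₀) :
    ∃ E : DCoh.D X, DCoh.IsQCohD E ∧ Nonempty ((kD 𝓘 hX).obj E ≅ W₀) := by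
  haveI := isLocallyNoetherian f
  haveI := compactSpace f
  haveI : IsNoetherian X := ⟨⟩
  haveI := compactSpace_completion f (𝓘 := 𝓘)
  have hL := isLocNoeth f (𝓘 := 𝓘)
  haveI := Thomason.hasCoproducts_D X
  haveI := H10Coh.isGrothendieckAbelian_sheafOfModules (ModSite.ringSh ((FSch.completionAlong X 𝓘).Osh hX))
  haveI : HasCoproducts.{u} (DerivedCategory (FSch.ModF (FSch.completionAlong X 𝓘) hX)) :=
    KInjRes.hasCoproducts_derivedCategory
  haveI := isWeakSerre_ind hL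
  haveI := isLeftAdjoint_kD hX (𝓘 := 𝓘)
  haveI : ∀ ι : Type u, PreservesColimitsOfShape (Discrete ι) (kD 𝓘 hX) := fun ι => inferInstance
  haveI : HasCoproducts.{u} (DerivedCategory (ModSite.Mod X.sheaf)) := Thomason.hasCoproducts_D X
  haveI : ∀ ι : Type u, PreservesColimitsOfShape (Discrete ι) (κ 𝓘 hX).pull.mapDerivedCategory :=
    fun ι => ‹∀ ι : Type u, PreservesColimitsOfShape (Discrete ι) (kD 𝓘 hX)› ι
  let ind := ObjectProperty.ind.{u} (Coh (FSch.completionAlong X 𝓘) hX)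
  have hind0 : ∀ Z : FSch.ModF (FSch.completionAlong X 𝓘) hX, IsZero Z → ind Z := fun Z hZ =>
    ind.prop_of_iso ((isZero_zero _).iso hZ) ind.prop_zero
  obtain ⟨P, hP, hgen⟩ := Thomason.hasGen (X := X) Set.univ isClosed_univ
    (by rw [Set.compl_univ]; exact isCompact_empty)
  have hgen' : ∀ E : DCoh.D X, DCoh.IsQCohD E → (∀ (n : ℤ) (φ : P⟦n⟧ ⟶ E), φ = 0) → IsZero E := fun E hE h =>
    hgen E ⟨hE, fun _ => Set.subset_univ _⟩ h
  obtain ⟨hPc, a₀, b₀, ha₀, hb₀⟩ := KFlat.Stalk.isCohD_and_bounded_of_isPerfect hP.1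
  haveI : P.IsLE b₀ := hb₀
  obtain ⟨c, hc⟩ := van_of_isPerfect f hX (𝓘 := 𝓘) hP.1
  obtain ⟨N, hN⟩ := uniform_bnd (Or.inl rfl) hP.1 hgen' (S := {n : ℤ | 0 ≤ n})
    (Filter.eventually_ge_atTop 0) (fun N => {j : ℤ | (N : ℤ) ≤ j}) (fun s hs => by
      obtain ⟨t₀, ht₀⟩ := Filter.eventually_atTop.1 hs
      exact ⟨t₀.toNat, fun j (hj : (t₀.toNat : ℤ) ≤ j) => ht₀ j (by omega)⟩)
  obtain ⟨N', hN'⟩ := uniform_bnd (Or.inr rfl) hP.1 hgen' (S := {n : ℤ | n ≤ 0})
    (Filter.eventually_le_atBot 0) (fun N => {j : ℤ | j ≤ -(N : ℤ)}) (fun s hs => by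
      obtain ⟨t₀, ht₀⟩ := Filter.eventually_atBot.1 hs
      exact ⟨(-t₀).toNat, fun j (hj : j ≤ -((-t₀).toNat : ℤ)) => ht₀ j (by omega)⟩)
  exact EssMain.main (κ 𝓘 hX).pull (fun E : DCoh.D X => DCoh.IsQCohD E) (loc_qc X) qc_shift ind hind0 (loc_good f hX)
    (fun E E' h h' => mb_qcoh f h𝓘 hX E E' h h') (im_of_bounded f h𝓘 hX)
    (Dual.isQCohD_of_isPerfect hP.1) b₀ c (fun Z hZ e he => hc Z e ⟨hZ, he⟩) N (fun E hE h j hj => hN E hE (fun n hn => h n hn) j hj)
    N' (fun E hE h j hj => hN' E hE (fun n hn => h n hn) j hj)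
    (fun E hE n₀ h => (Thomason.bnd_atBot_iff E).1
      ((Thomason.bnd_iff_ev (Or.inr rfl) hP.1 hgen' hE).2 (Filter.eventually_atBot.2 ⟨n₀, h⟩)))
    (good_kD f hX h𝓘 P (Dual.isQCohD_of_isPerfect hP.1)) (fun i => rel_kD f hX h𝓘 hP.1 i)
    (fun Y Z => DAdjoint.small_hom Y Z) hW₀

include f h𝓘 in
/-- Complexes with coherent cohomology are the completions of complexes with coherent cohomology. -/
theorem coh_iff_exists (W : DerivedCategory (FSch.ModF (FSch.completionAlong X 𝓘) hX)) :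
    (∀ i, FSch.IsCohF (FSch.completionAlong X 𝓘) hX
      ((DerivedCategory.homologyFunctor (FSch.ModF (FSch.completionAlong X 𝓘) hX) i).obj W)) ↔
      ∃ E : DCoh.D X, DCoh.IsCohD E ∧ Nonempty ((kD 𝓘 hX).obj E ≅ W) := by
  haveI := isLocallyNoetherian f
  constructor
  · intro hW
    obtain ⟨E, hE, ⟨e⟩⟩ := exists_iso_of_good f h𝓘 hX (W₀ := W) fun q => (Coh (FSch.completionAlong X 𝓘) hX).le_ind _ (hW q)
    refine ⟨E, fun q => ?_, ⟨e⟩⟩
    obtain ⟨eh⟩ := DFFAbs.nonempty_homology_map (κ 𝓘 hX).pull E q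
    obtain ⟨G, hG, ⟨g⟩⟩ := exists_coh_pull_iso f h𝓘 hX _ (hW q)
    let θ : (κ 𝓘 hX).pull.obj G ≅ (κ 𝓘 hX).pull.obj (DCoh.HD E q) := g ≪≫
      (DerivedCategory.homologyFunctor (FSch.ModF (FSch.completionAlong X 𝓘) hX) q).mapIso e.symm ≪≫ eh
    obtain ⟨a, ha⟩ := (bijective_pull_map_qcoh f h𝓘 hX G (DCoh.HD E q) hG.1 (hE q)).2 θ.hom
    obtain ⟨b, hb⟩ := (bijective_pull_map_qcoh f h𝓘 hX (DCoh.HD E q) G (hE q) hG.1).2 θ.inv
    simp only at ha hb
    exact H10Coh.isCoh_of_iso (Iso.mk a b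
      ((bijective_pull_map_qcoh f h𝓘 hX _ _ hG.1 hG.1).1 ((Functor.map_comp _ _ _).trans
        ((congrArg₂ (· ≫ ·) ha hb).trans (θ.hom_inv_id.trans (CategoryTheory.Functor.map_id _ _).symm))))
      ((bijective_pull_map_qcoh f h𝓘 hX _ _ (hE q) (hE q)).1 ((Functor.map_comp _ _ _).trans
        ((congrArg₂ (· ≫ ·) hb ha).trans (θ.inv_hom_id.trans (CategoryTheory.Functor.map_id _ _).symm))))) hG
  · rintro ⟨E, hE, ⟨e⟩⟩ q
    obtain ⟨eh⟩ := DFFAbs.nonempty_homology_map (κ 𝓘 hX).pull E q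
    exact H24FMod.isCohF_of_iso (eh.symm ≪≫
      (DerivedCategory.homologyFunctor (FSch.ModF (FSch.completionAlong X 𝓘) hX) q).mapIso e)
      (isCohF_pull f hX _ (hE q))

end Groth.Agent.H8FSch.Algz
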