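import Groth.Agent.H8FSch.Algz.DFFAbs
import Groth.Agent.H16Derived.Thomason.Bounded
import Mathlib.Algebra.Homology.DerivedCategory.TStructure

/-!
# Essential images of fully faithful triangulated functors: abstract lemmas
-/

set_option autoImplicit false
set_option linter.style.haveILetI false
set_option linter.unusedSectionVars false
set_option backward.isDefEq.respectTransparency false

universe u₀ v u v' u' w w'

open CategoryTheory CategoryTheory.Limits CategoryTheory.Pretriangulated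

namespace Groth.Agent.H8FSch.Algz.EssAbs

open H16Derived

section Image

variable {D : Type u} [Category.{v} D] [Preadditive D] [HasZeroObject D] [HasShift D ℤ]
  [∀ n : ℤ, (shiftFunctor D n).Additive] [Pretriangulated D]
  {D' : Type u'} [Category.{v'} D'] [Preadditive D'] [HasZeroObject D'] [HasShift D' ℤ]
  [∀ n : ℤ, (shiftFunctor D' n).Additive] [Pretriangulated D']
  (F : D ⥤ D') [F.CommShift ℤ] [F.IsTriangulated] (P : D → Prop)

/-- The image of the objects with `P`. -/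
def Im (Z : D') : Prop := ∃ E, P E ∧ Nonempty (F.obj E ≅ Z)

variable {F P}

theorem Im.of_iso {Z Z' : D'} (e : Z ≅ Z') (h : Im F P Z) : Im F P Z' :=
  let ⟨E, hE, ⟨i⟩⟩ := h; ⟨E, hE, ⟨i ≪≫ e⟩⟩

theorem Im.of_obj {E : D} (h : P E) : Im F P (F.obj E) := ⟨E, h, ⟨Iso.refl _⟩⟩

theorem Im.shift (hP : ∀ E, P E → ∀ n : ℤ, P (E⟦n⟧)) {Z : D'} (h : Im F P Z) (n : ℤ) : Im F P (Z⟦n⟧) :=
  let ⟨E, hE, ⟨i⟩⟩ := h
  ⟨E⟦n⟧, hP E hE n, ⟨(F.commShiftIso n).app E ≪≫ (shiftFunctor D' n).mapIso i⟩⟩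

/-- The image is closed under cones, by fullness. -/
theorem Im.obj₃ (hcone : ∀ T : Triangle D, T ∈ distTriang D → P T.obj₁ → P T.obj₂ → P T.obj₃)
    (hmb : ∀ E E', P E → P E' → MapBij.MB F E E') {T : Triangle D'} (hT : T ∈ distTriang D')
    (h₁ : Im F P T.obj₁) (h₂ : Im F P T.obj₂) : Im F P T.obj₃ := by
  obtain ⟨E₁, hE₁, ⟨e₁⟩⟩ := h₁
  obtain ⟨E₂, hE₂, ⟨e₂⟩⟩ := h₂
  obtain ⟨φ, hφ : F.map φ = e₁.hom ≫ T.mor₁ ≫ e₂.inv⟩ := (hmb E₁ E₂ hE₁ hE₂).2 (e₁.hom ≫ T.mor₁ ≫ e₂.inv)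
  obtain ⟨E₃, g, h, hd⟩ := distinguished_cocone_triangle φ
  refine ⟨E₃, hcone _ hd hE₁ hE₂, ⟨Triangle.π₃.mapIso
    (isoTriangleOfIso₁₂ _ T (F.map_distinguished _ hd) hT e₁ e₂ ?_)⟩⟩
  show F.map φ ≫ e₂.hom = e₁.hom ≫ T.mor₁
  rw [hφ, Category.assoc, Category.assoc, Iso.inv_hom_id, Category.comp_id]

/-- The image is closed under extensions. -/
theorem Im.obj₂ (hcone : ∀ T : Triangle D, T ∈ distTriang D → P T.obj₁ → P T.obj₂ → P T.obj₃)
    (hP : ∀ E, P E → ∀ n : ℤ, P (E⟦n⟧))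
    (hmb : ∀ E E', P E → P E' → MapBij.MB F E E') {T : Triangle D'} (hT : T ∈ distTriang D')
    (h₁ : Im F P T.obj₁) (h₃ : Im F P T.obj₃) : Im F P T.obj₂ :=
  Im.obj₃ hcone hmb (inv_rot_of_distTriang _ hT) (h₃.shift hP (-1)) h₁

/-- The image is closed under direct sums. -/
theorem Im.sum [HasCoproducts.{u₀} D] [HasCoproducts.{u₀} D']
    [∀ κ : Type u₀, PreservesColimitsOfShape (Discrete κ) F]
    (hsum : ∀ (κ : Type u₀) (X : κ → D), (∀ k, P (X k)) → P (∐ X))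
    {κ : Type u₀} (Z : κ → D') (h : ∀ k, Im F P (Z k)) : Im F P (∐ Z) := by
  choose E hE e using h
  exact ⟨∐ E, hsum κ E hE, ⟨PreservesCoproduct.iso F E ≪≫ Sigma.mapIso fun k => (e k).some⟩⟩

/-- The image is localizing. -/
theorem loc_im [HasCoproducts.{u₀} D] [HasCoproducts.{u₀} D']
    [∀ κ : Type u₀, PreservesColimitsOfShape (Discrete κ) F] (hP : Thomason.Loc.{u₀} P)
    (hmb : ∀ E E', P E → P E' → MapBij.MB F E E') : Thomason.Loc.{u₀} (Im F P) where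
  of_iso e h := h.of_iso e
  sum κ Z h := Im.sum hP.sum Z h
  cone _ hT h₁ h₂ := Im.obj₃ hP.cone hmb hT h₁ h₂

/-- Maps into the third object vanish if the two obstructions vanish. -/
theorem eq_zero_obj₃ {T : Triangle D} (hT : T ∈ distTriang D) {Y : D} (h₂ : ∀ y : Y ⟶ T.obj₂, y = 0)
    (h₁ : ∀ y : Y ⟶ T.obj₁⟦(1 : ℤ)⟧, y = 0) (x : Y ⟶ T.obj₃) : x = 0 := by
  obtain ⟨y, rfl⟩ : ∃ y : Y ⟶ T.obj₂, x = y ≫ T.mor₂ := Triangle.coyoneda_exact₃ _ hT x (h₁ _)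
  rw [h₂ y, zero_comp]

/-- Maps into the first object vanish if the two obstructions vanish. -/
theorem eq_zero_obj₁ {T : Triangle D} (hT : T ∈ distTriang D) {Y : D} (h₂ : ∀ y : Y ⟶ T.obj₂, y = 0)
    (h₃ : ∀ y : Y ⟶ T.obj₃⟦(-1 : ℤ)⟧, y = 0) (x : Y ⟶ T.obj₁) : x = 0 := by
  obtain ⟨y, rfl⟩ : ∃ y : Y ⟶ T.obj₃⟦(-1 : ℤ)⟧, x = y ≫ T.invRotate.mor₁ :=
    Triangle.coyoneda_exact₂ _ (inv_rot_of_distTriang _ hT) x (h₂ _)
  rw [h₃ y]
  exact zero_comp

/-- Vanishing out of a shift and into a shift. -/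
theorem forall_shift_neg_iff (G E : D) (i : ℤ) :
    (∀ φ : G⟦-i⟧ ⟶ E, φ = 0) ↔ ∀ φ : G ⟶ E⟦i⟧, φ = 0 := by
  let c := shiftFunctorCompIsoId D i (-i) (add_neg_cancel i)
  let c' := shiftFunctorCompIsoId D (-i) i (neg_add_cancel i)
  constructor
  · intro h φ
    exact (shiftFunctor _ (-i)).map_eq_zero_iff.1
      ((cancel_mono (c.hom.app E)).1 ((h _).trans zero_comp.symm))
  · intro h φ
    exact (shiftFunctor _ i).map_eq_zero_iff.1
      ((cancel_epi (c'.inv.app G)).1 ((h _).trans comp_zero.symm))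

/-- The cone of a map inducing bijections on maps from a shift-stable family is orthogonal to it. -/
theorem orth_cone {ι : Type*} (σ : ι → D) (hshift : ∀ i (k : ℤ), ∃ j, Nonempty (σ j ≅ (σ i)⟦k⟧))
    {T : Triangle D} (hT : T ∈ distTriang D) (hbij : ∀ i, Function.Bijective fun f : σ i ⟶ T.obj₁ => f ≫ T.mor₁)
    (i : ι) (x : σ i ⟶ T.obj₃) : x = 0 := by
  have h1 : x ≫ T.mor₃ = 0 := by
    obtain ⟨j, ⟨ej⟩⟩ := hshift i (-1)
    let c := shiftFunctorCompIsoId D (1 : ℤ) (-1) (by norm_num)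
    have h' : (x ≫ T.mor₃) ≫ T.mor₁⟦(1 : ℤ)⟧' = 0 := by
      rw [Category.assoc, comp_distTriang_mor_zero₃₁ _ hT, comp_zero]
    let a' : σ j ⟶ T.obj₁ := ej.hom ≫ (x ≫ T.mor₃)⟦(-1 : ℤ)⟧' ≫ c.hom.app _
    have ha' : a' ≫ T.mor₁ = 0 := by
      simp only [a', Category.assoc]
      erw [← c.hom.naturality T.mor₁]
      rw [Functor.comp_map, ← Functor.map_comp_assoc (shiftFunctor D (-1 : ℤ)),
        h', Functor.map_zero, zero_comp, comp_zero]
    have h0 : a' = 0 := (hbij j).1 (ha'.trans zero_comp.symm)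
    have h0' : (x ≫ T.mor₃)⟦(-1 : ℤ)⟧' ≫ c.hom.app _ = 0 :=
      (cancel_epi ej.hom).1 (h0.trans comp_zero.symm)
    have h2 : (x ≫ T.mor₃)⟦(-1 : ℤ)⟧' = 0 := (cancel_mono (c.hom.app _)).1 (h0'.trans zero_comp.symm)
    exact (shiftFunctor D (-1 : ℤ)).map_eq_zero_iff.1 h2
  obtain ⟨y, rfl⟩ : ∃ y : σ i ⟶ T.obj₂, x = y ≫ T.mor₂ := Triangle.coyoneda_exact₃ _ hT x h1
  obtain ⟨z, hz⟩ := (hbij i).2 y
  rw [show y = z ≫ T.mor₁ from hz.symm, Category.assoc, comp_distTriang_mor_zero₁₂ _ hT, comp_zero]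

/-- Vanishing pulled back along a functor which is injective on maps. -/
theorem eq_zero_of_im {P₀ E : D} {Z : D'} (e : F.obj E ≅ Z) (n : ℤ) (hmb : MapBij.MB F P₀ (E⟦n⟧))
    (h : ∀ x : F.obj P₀ ⟶ Z⟦n⟧, x = 0) (φ : P₀ ⟶ E⟦n⟧) : φ = 0 := by
  refine hmb.1 (Eq.trans ?_ (F.map_zero _ _).symm)
  rw [← cancel_mono ((F.commShiftIso n).hom.app E ≫ e.hom⟦n⟧'), zero_comp]
  exact h _

variable (F) in
/-- Maps out of the image into high shifts of objects bounded by `R` vanish. -/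
def VanP (R : D' → ℤ → Prop) (K : D) : Prop :=
  ∃ c : ℤ, ∀ Z e, R Z e → ∀ n : ℤ, e + c < n → ∀ z : F.obj K ⟶ Z⟦n⟧, z = 0

variable {R : D' → ℤ → Prop}

theorem VanP.of_iso {K K' : D} (e : K ≅ K') (h : VanP F R K) : VanP F R K' :=
  let ⟨c, hc⟩ := h
  ⟨c, fun Z m hZ n hn z => (cancel_epi (F.map e.hom)).1 ((hc Z m hZ n hn _).trans comp_zero.symm)⟩

theorem VanP.shift {K : D} (h : VanP F R K) (k : ℤ) : VanP F R (K⟦k⟧) := by
  obtain ⟨c, hc⟩ := h
  refine ⟨c + k, fun Z m hZ n hn z => ?_⟩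
  let ε := (shiftFunctorAdd' D' (n - k) k n (by omega)).app Z
  let η := (F.commShiftIso k).app K
  obtain ⟨y, hy⟩ := (shiftFunctor D' k).map_surjective (η.inv ≫ z ≫ ε.hom)
  rw [hc Z m hZ (n - k) (by omega) y, Functor.map_zero] at hy
  exact (cancel_epi η.inv).1 ((cancel_mono ε.hom).1 (by rw [Category.assoc, ← hy, comp_zero, zero_comp]))

theorem VanP.obj₂ {T : Triangle D} (hT : T ∈ distTriang D) (h₁ : VanP F R T.obj₁) (h₃ : VanP F R T.obj₃) :
    VanP F R T.obj₂ := by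
  obtain ⟨c₁, h₁⟩ := h₁
  obtain ⟨c₃, h₃⟩ := h₃
  refine ⟨max c₁ c₃, fun Z m hZ n hn z => ?_⟩
  obtain ⟨y, hy⟩ : ∃ y : F.obj T.obj₃ ⟶ Z⟦n⟧, z = F.map T.mor₂ ≫ y :=
    Triangle.yoneda_exact₂ _ (F.map_distinguished T hT) z
      (h₁ Z m hZ n (by have := le_max_left c₁ c₃; omega) _)
  rw [hy, h₃ Z m hZ n (by have := le_max_right c₁ c₃; omega) y, comp_zero]

theorem VanP.of_isZero {K : D} (h : IsZero K) : VanP F R K :=
  ⟨0, fun _ _ _ _ _ _ => (F.map_isZero h).eq_of_src _ _⟩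

end Image

section Amplitude

variable {A : Type u} [Category.{v} A] [Abelian A] [HasDerivedCategory.{w} A]
  {B : Type u'} [Category.{v'} B] [Abelian B] [HasDerivedCategory.{w'} B]
  (G : A ⥤ B) [G.Additive] [PreservesFiniteLimits G] [PreservesFiniteColimits G]

theorem isLE_map (X : DerivedCategory A) (n : ℤ) [X.IsLE n] : (G.mapDerivedCategory.obj X).IsLE n := by
  rw [DerivedCategory.isLE_iff]
  intro i hi
  obtain ⟨e⟩ := DFFAbs.nonempty_homology_map G X i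
  exact (G.map_isZero (DerivedCategory.isZero_of_isLE X n i hi)).of_iso e

theorem isGE_map (X : DerivedCategory A) (n : ℤ) [X.IsGE n] : (G.mapDerivedCategory.obj X).IsGE n := by
  rw [DerivedCategory.isGE_iff]
  intro i hi
  obtain ⟨e⟩ := DFFAbs.nonempty_homology_map G X i
  exact (G.map_isZero (DerivedCategory.isZero_of_isGE X n i hi)).of_iso e

open DerivedCategory.TStructure in
/-- An object without cohomology vanishes. -/
theorem isZero_of_homology (X : DerivedCategory A)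
    (h : ∀ i, IsZero ((DerivedCategory.homologyFunctor A i).obj X)) : IsZero X := by
  haveI : X.IsLE 0 := (DerivedCategory.isLE_iff X 0).2 fun i _ => h i
  haveI : X.IsGE 1 := (DerivedCategory.isGE_iff X 1).2 fun i _ => h i
  haveI : t.IsLE X 0 := ‹X.IsLE 0›
  haveI : t.IsGE X 1 := ‹X.IsGE 1›
  exact (IsZero.iff_id_eq_zero _).2 (t.zero (𝟙 X) 0 1 (by omega))

open DerivedCategory.TStructure in
/-- Orthogonality passes to the upper truncation in high shifts. -/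
theorem orth_truncGE {Y C : DerivedCategory A} (hC : ∀ (n : ℤ) (y : Y ⟶ C⟦n⟧), y = 0) (m n₀ : ℤ)
    (hlow : ∀ n, n₀ < n → ∀ y : Y ⟶ ((t.truncLT m).obj C)⟦n⟧, y = 0) (n : ℤ) (hn : n₀ ≤ n)
    (x : Y ⟶ ((t.truncGE m).obj C)⟦n⟧) : x = 0 := by
  refine eq_zero_obj₃ (Triangle.shift_distinguished _ (t.triangleLTGE_distinguished m C) n) (fun y => hC n y)
    (fun y => ?_) x
  let e := (shiftFunctorAdd' (DerivedCategory A) n 1 (n + 1) rfl).app ((t.truncLT m).obj C)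
  exact (cancel_mono e.inv).1 ((hlow (n + 1) (by omega) _).trans zero_comp.symm)

open DerivedCategory.TStructure in
/-- Orthogonality passes to the lower truncation in low shifts. -/
theorem orth_truncLT {Y C : DerivedCategory A} (b : ℤ) [Y.IsLE b] (hC : ∀ (n : ℤ) (y : Y ⟶ C⟦n⟧), y = 0)
    (M n : ℤ) (hn : n ≤ M - b) (x : Y ⟶ ((t.truncLT M).obj C)⟦n⟧) : x = 0 := by
  refine eq_zero_obj₁ (Triangle.shift_distinguished _ (t.triangleLTGE_distinguished M C) n) (fun y => hC n y)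
    (fun y => ?_) x
  let Z := (t.truncGE M).obj C
  haveI : t.IsGE Z M := inferInstanceAs (t.IsGE ((t.truncGE M).obj C) M)
  haveI : t.IsGE (Z⟦n⟧) (M - n) := t.isGE_shift Z M n (M - n) (by omega)
  haveI : t.IsGE ((Z⟦n⟧)⟦(-1 : ℤ)⟧) (M - n + 1) := t.isGE_shift (Z⟦n⟧) (M - n) (-1) (M - n + 1) (by omega)
  exact @CategoryTheory.Triangulated.TStructure.zero _ _ _ _ _ _ _ t _ _ y b (M - n + 1) (by omega) ‹Y.IsLE b› ‹t.IsGE ((Z⟦n⟧)⟦(-1 : ℤ)⟧) (M - n + 1)›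

end Amplitude

end Groth.Agent.H8FSch.Algz.EssAbs
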