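import Groth.Agent.H16Derived.Thomason.Cells
import Mathlib.CategoryTheory.Triangulated.Yoneda

/-!
# Pairs of objects on which a triangulated functor is bijective on maps
-/

set_option autoImplicit false
set_option linter.style.haveILetI false
set_option linter.unusedSectionVars false
set_option backward.isDefEq.respectTransparency false

universe u₀ v u v' u'

open CategoryTheory CategoryTheory.Limits CategoryTheory.Pretriangulated

namespace Groth.Agent.H8FSch.Algz.MapBij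

open H16Derived H16Derived.QCohD

variable {D : Type u} [Category.{v} D] [Preadditive D] [HasZeroObject D] [HasShift D ℤ]
  [∀ n : ℤ, (shiftFunctor D n).Additive] [Pretriangulated D]
  {D' : Type u'} [Category.{v'} D'] [Preadditive D'] [HasZeroObject D'] [HasShift D' ℤ]
  [∀ n : ℤ, (shiftFunctor D' n).Additive] [Pretriangulated D']
  (F : D ⥤ D') [F.CommShift ℤ] [F.IsTriangulated]

/-- The functor is bijective on maps. -/
def MB (Y L : D) : Prop := Function.Bijective fun x : Y ⟶ L => F.map x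

/-- Bijective on maps into all shifts. -/
def MBAll (Y L : D) : Prop := ∀ k : ℤ, MB F Y (L⟦k⟧)

variable {F}

theorem MB.of_iso {Y Y' L L' : D} (e : Y ≅ Y') (e' : L ≅ L') (h : MB F Y L) : MB F Y' L' := by
  have : (fun x : Y' ⟶ L' => F.map x) =
      ((F.mapIso e).homCongr (F.mapIso e')) ∘ (fun x : Y ⟶ L => F.map x) ∘ (e.homCongr e').symm := funext fun x => by
    simp [Iso.homCongr]
  show Function.Bijective fun x : Y' ⟶ L' => F.map x
  rw [this]
  exact (Equiv.bijective _).comp (h.comp (Equiv.bijective _))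

theorem mb_shift {Y L : D} (n : ℤ) (h : MB F Y L) : MB F (Y⟦n⟧) (L⟦n⟧) := by
  let E : (Y ⟶ L) ≃ (Y⟦n⟧ ⟶ L⟦n⟧) :=
    Equiv.ofBijective (fun x => x⟦n⟧') ((Functor.FullyFaithful.ofFullyFaithful (shiftFunctor D n)).map_bijective Y L)
  let E' : (F.obj Y ⟶ F.obj L) ≃ (F.obj (Y⟦n⟧) ⟶ F.obj (L⟦n⟧)) :=
    (Equiv.ofBijective (fun x => x⟦n⟧') ((Functor.FullyFaithful.ofFullyFaithful (shiftFunctor D' n)).map_bijective _ _)).trans
      (((F.commShiftIso n).app Y).homCongr ((F.commShiftIso n).app L)).symm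
  have hE : (fun x : Y⟦n⟧ ⟶ L⟦n⟧ => F.map x) = E' ∘ (fun x : Y ⟶ L => F.map x) ∘ E.symm := funext fun x => by
    obtain ⟨y, rfl⟩ := E.surjective x
    simp only [Function.comp_apply, Equiv.symm_apply_apply]
    show F.map (y⟦n⟧') = (F.commShiftIso n).hom.app Y ≫ (F.map y)⟦n⟧' ≫ (F.commShiftIso n).inv.app L
    have h := (F.commShiftIso n).hom.naturality y
    dsimp at h
    rw [← reassoc_of% h, Iso.hom_inv_id_app]
    exact (Category.comp_id _).symm
  show Function.Bijective fun x : Y⟦n⟧ ⟶ L⟦n⟧ => F.map x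
  rw [hE]
  exact E'.bijective.comp (h.comp E.symm.bijective)

theorem MBAll.mb {Y L : D} (h : MBAll F Y L) : MB F Y L :=
  (h 0).of_iso (Iso.refl _) ((shiftFunctorZero D ℤ).app L)

theorem MBAll.shift_left {Y L : D} (h : MBAll F Y L) (n : ℤ) : MBAll F (Y⟦n⟧) L := fun k =>
  (mb_shift n (h (k - n))).of_iso (Iso.refl _) ((shiftFunctorAdd' D (k - n) n k (by omega)).app L).symm

theorem MBAll.shift_right {Y L : D} (h : MBAll F Y L) (n : ℤ) : MBAll F Y (L⟦n⟧) := fun k =>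
  (h (n + k)).of_iso (Iso.refl _) ((shiftFunctorAdd' D n k (n + k) rfl).app L)

theorem MBAll.of_iso {Y Y' L L' : D} (e : Y ≅ Y') (e' : L ≅ L') (h : MBAll F Y L) : MBAll F Y' L' := fun k =>
  (h k).of_iso e ((shiftFunctor D k).mapIso e')

/-- The third object in the source. -/
theorem mb_obj₃ {T : Triangle D} (hT : T ∈ distTriang D) {L : D} (h₁ : MB F T.obj₁ L)
    (h₁' : MB F (T.obj₁⟦(1 : ℤ)⟧) L) (h₂ : MB F T.obj₂ L) (h₂' : MB F (T.obj₂⟦(1 : ℤ)⟧) L) :
    MB F T.obj₃ L := by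
  have hT' := rot_of_distTriang _ hT
  have hT'' := rot_of_distTriang _ hT'
  refine ⟨(injective_iff_map_eq_zero (F.mapAddHom (X := T.obj₃) (Y := L))).2 fun x hx => ?_, fun y => ?_⟩
  · change F.map x = 0 at hx
    obtain ⟨z, hz⟩ := Triangle.yoneda_exact₃ _ hT x (h₂.1 (by
      show F.map (T.mor₂ ≫ x) = F.map 0
      rw [Functor.map_comp, hx, comp_zero, Functor.map_zero]))
    obtain ⟨w, hw⟩ : ∃ w : F.obj (T.obj₂⟦(1 : ℤ)⟧) ⟶ F.obj L, F.map z = F.map T.rotate.mor₃ ≫ w := by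
      obtain ⟨w, hw⟩ : ∃ w : F.obj (T.rotate.rotate.obj₃) ⟶ F.obj L, F.map z = F.map T.rotate.rotate.mor₂ ≫ w :=
        Triangle.yoneda_exact₂ _ (F.map_distinguished _ hT'') (F.map z) (by
          show F.map T.rotate.rotate.mor₁ ≫ F.map z = 0
          rw [← F.map_comp]
          exact (congrArg F.map hz).symm.trans hx)
      exact ⟨w, hw⟩
    obtain ⟨w', rfl⟩ := h₂'.2 w
    have h1 : z = T.rotate.mor₃ ≫ w' := h₁'.1 (hw.trans (F.map_comp _ _).symm)
    rw [hz, h1, ← Category.assoc]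
    exact (congrArg (· ≫ w') (comp_distTriang_mor_zero₂₃ _ hT')).trans zero_comp
  · obtain ⟨x', hx'⟩ := h₂.2 (F.map T.mor₂ ≫ y)
    change F.map x' = F.map T.mor₂ ≫ y at hx'
    obtain ⟨x'', hx''⟩ := Triangle.yoneda_exact₂ _ hT x' (h₁.1 (by
      show F.map (T.mor₁ ≫ x') = F.map 0
      rw [Functor.map_comp, hx', ← Category.assoc, ← F.map_comp, comp_distTriang_mor_zero₁₂ _ hT,
        Functor.map_zero, Functor.map_zero, zero_comp]))
    obtain ⟨z, hz⟩ : ∃ z : F.obj (T.obj₁⟦(1 : ℤ)⟧) ⟶ F.obj L, y - F.map x'' = F.map T.mor₃ ≫ z :=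
      Triangle.yoneda_exact₂ _ (F.map_distinguished _ hT') (y - F.map x'') (by
        show F.map T.mor₂ ≫ (y - F.map x'') = 0
        rw [Preadditive.comp_sub, ← F.map_comp, ← hx'', hx', sub_self])
    obtain ⟨z', rfl⟩ := h₁'.2 z
    exact ⟨x'' + T.mor₃ ≫ z', by
      show F.map (x'' + T.mor₃ ≫ z') = y
      rw [Functor.map_add, Functor.map_comp, ← hz, add_sub_cancel]⟩

/-- The third object in the target. -/
theorem mb_obj₃' {T : Triangle D} (hT : T ∈ distTriang D) {Y : D} (h₁ : MB F Y T.obj₁)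
    (h₁' : MB F Y (T.obj₁⟦(1 : ℤ)⟧)) (h₂ : MB F Y T.obj₂) (h₂' : MB F Y (T.obj₂⟦(1 : ℤ)⟧)) :
    MB F Y T.obj₃ := by
  have hT' := rot_of_distTriang _ hT
  have hT'' := rot_of_distTriang _ hT'
  refine ⟨(injective_iff_map_eq_zero (F.mapAddHom (X := Y) (Y := T.obj₃))).2 fun x hx => ?_, fun y => ?_⟩
  · change F.map x = 0 at hx
    obtain ⟨z, hz⟩ := Triangle.coyoneda_exact₃ _ hT x (h₁'.1 (by
      show F.map (x ≫ T.mor₃) = F.map 0
      rw [Functor.map_comp, hx, zero_comp, Functor.map_zero]))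
    obtain ⟨w, hw⟩ : ∃ w : F.obj Y ⟶ F.obj T.obj₁, F.map z = w ≫ F.map T.mor₁ :=
      Triangle.coyoneda_exact₂ _ (F.map_distinguished _ hT) (F.map z) (by
        show F.map z ≫ F.map T.mor₂ = 0
        rw [← F.map_comp, ← hz, hx])
    obtain ⟨w', rfl⟩ := h₁.2 w
    have h1 : z = w' ≫ T.mor₁ := h₂.1 (hw.trans (F.map_comp _ _).symm)
    rw [hz, h1, Category.assoc, comp_distTriang_mor_zero₁₂ _ hT, comp_zero]
  · obtain ⟨w, hw⟩ := h₁'.2 (y ≫ F.map T.mor₃)
    change F.map w = y ≫ F.map T.mor₃ at hw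
    obtain ⟨x, hx⟩ : ∃ x : Y ⟶ T.obj₃, w = x ≫ T.mor₃ := Triangle.coyoneda_exact₃ _ hT' w (h₂'.1 (by
      show F.map (w ≫ T.rotate.mor₃) = F.map 0
      have h0 : T.mor₃ ≫ T.rotate.mor₃ = 0 := comp_distTriang_mor_zero₂₃ _ hT'
      rw [Functor.map_comp, hw, Category.assoc, ← F.map_comp, h0, Functor.map_zero, Functor.map_zero, comp_zero]))
    obtain ⟨z, hz⟩ : ∃ z : F.obj Y ⟶ F.obj T.obj₂, y - F.map x = z ≫ F.map T.mor₂ :=
      Triangle.coyoneda_exact₂ _ (F.map_distinguished _ hT') (y - F.map x) (by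
        show (y - F.map x) ≫ F.map T.mor₃ = 0
        rw [Preadditive.sub_comp, ← F.map_comp, ← hx, hw, sub_self])
    obtain ⟨z', rfl⟩ := h₂.2 z
    exact ⟨x + z' ≫ T.mor₂, by
      show F.map (x + z' ≫ T.mor₂) = y
      rw [Functor.map_add, Functor.map_comp, ← hz, add_sub_cancel]⟩

theorem MBAll.obj₃ {T : Triangle D} (hT : T ∈ distTriang D) {L : D} (h₁ : MBAll F T.obj₁ L)
    (h₂ : MBAll F T.obj₂ L) : MBAll F T.obj₃ L := fun k =>
  mb_obj₃ hT (h₁ k) (h₁.shift_left 1 k) (h₂ k) (h₂.shift_left 1 k)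

theorem MBAll.obj₃' {T : Triangle D} (hT : T ∈ distTriang D) {Y : D} (h₁ : MBAll F Y T.obj₁)
    (h₂ : MBAll F Y T.obj₂) : MBAll F Y T.obj₃ := fun k =>
  mb_obj₃' (Triangle.shift_distinguished _ hT k) (h₁ k) (h₁.shift_right k 1) (h₂ k) (h₂.shift_right k 1)

variable [HasCoproducts.{u₀} D] [HasCoproducts.{u₀} D']

/-- Direct sums in the source. -/
theorem mb_sigma {κ : Type u₀} (Y : κ → D) [PreservesColimit (Discrete.functor Y) F] {L : D}
    (h : ∀ i, MB F (Y i) L) : MB F (∐ Y) L := by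
  have hext : ∀ {a b : F.obj (∐ Y) ⟶ F.obj L}, (∀ i, F.map (Sigma.ι Y i) ≫ a = F.map (Sigma.ι Y i) ≫ b) → a = b := by
    intro a b hab
    rw [← cancel_epi (PreservesCoproduct.iso F Y).inv]
    refine Sigma.hom_ext _ _ fun i => ?_
    rw [PreservesCoproduct.inv_hom, ι_comp_sigmaComparison_assoc, ι_comp_sigmaComparison_assoc]
    exact hab i
  refine ⟨fun a b hab => Sigma.hom_ext _ _ fun i => (h i).1 ?_, fun y => ?_⟩
  · exact (F.map_comp _ _).trans ((congrArg (F.map (Sigma.ι Y i) ≫ ·) hab).trans (F.map_comp _ _).symm)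
  · choose x hx using fun i => (h i).2 (F.map (Sigma.ι Y i) ≫ y)
    refine ⟨Sigma.desc x, hext fun i => ?_⟩
    show F.map (Sigma.ι Y i) ≫ F.map (Sigma.desc x) = _
    rw [← F.map_comp, Sigma.ι_desc]
    exact hx i

/-- Direct sums in the target. -/
theorem mb_sigma' {κ : Type u₀} (L : κ → D) [PreservesColimit (Discrete.functor L) F] {Y : D}
    (P : D → Prop) (P' : D' → Prop) (hY : FinSupp.Holds.{u₀} P Y) (hY' : FinSupp.Holds.{u₀} P' (F.obj Y))
    (hL : ∀ i, P (L i)) (hL' : ∀ i, P' (F.obj (L i))) (h : ∀ i, MB F Y (L i)) : MB F Y (∐ L) := by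
  classical
  refine ⟨(injective_iff_map_eq_zero (F.mapAddHom (X := Y) (Y := ∐ L))).2 fun x hx => ?_, fun y => ?_⟩
  · change F.map x = 0 at hx
    obtain ⟨s, hs⟩ := hY κ L hL x
    rw [Thomason.eq_sum_ι L x s hs]
    refine Finset.sum_eq_zero fun k _ => ?_
    rw [show x ≫ FinSupp.proj L k = 0 from (h k).1 (by
      show F.map (x ≫ FinSupp.proj L k) = F.map 0
      rw [Functor.map_comp, hx, zero_comp, Functor.map_zero]), zero_comp]
  · let σ := PreservesCoproduct.iso F L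
    obtain ⟨s, hs⟩ := hY' κ (fun i => F.obj (L i)) hL' (y ≫ σ.hom)
    choose x hx using fun k => (h k).2 ((y ≫ σ.hom) ≫ FinSupp.proj (fun i => F.obj (L i)) k)
    refine ⟨∑ k ∈ s, x k ≫ Sigma.ι L k, ?_⟩
    show F.map _ = y
    rw [Functor.map_sum, ← cancel_mono σ.hom, Preadditive.sum_comp,
      Thomason.eq_sum_ι (fun i => F.obj (L i)) (y ≫ σ.hom) s hs]
    refine Finset.sum_congr rfl fun k _ => ?_
    rw [Functor.map_comp, Category.assoc, show F.map (x k) = _ from hx k]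
    congr 1
    rw [← Iso.eq_comp_inv, PreservesCoproduct.inv_hom, ι_comp_sigmaComparison]

end Groth.Agent.H8FSch.Algz.MapBij
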