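import Groth.Agent.H16Derived.DMinus.Bounded
import Groth.Agent.H8FSch.Algz.MapBij
import Groth.Agent.H26DerPush.Basic
import Mathlib.Algebra.Homology.DerivedCategory.ExactFunctor

/-!
# Full faithfulness of a derived inclusion through an equivalence
-/

set_option autoImplicit false
set_option linter.style.haveILetI false
set_option linter.unusedSectionVars false

universe v₁ v₂ v₃ v₄ u₁ u₂ u₃ u₄

open CategoryTheory CategoryTheory.Limits

namespace Groth.Agent.H8FSch.Algz.IndEquiv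

open H16Derived

attribute [local instance] HasDerivedCategory.standard

variable {C₁ : Type u₁} [Category.{v₁} C₁] [Abelian C₁] {C₂ : Type u₂} [Category.{v₂} C₂] [Abelian C₂]
  {A : Type u₃} [Category.{v₃} A] [Abelian A] {B : Type u₄} [Category.{v₄} B] [Abelian B]
  (ι₁ : C₁ ⥤ A) (K : A ⥤ B) (ι₂ : C₂ ⥤ B) (K₀ : C₁ ⥤ C₂)
  [ι₁.Additive] [PreservesFiniteLimits ι₁] [PreservesFiniteColimits ι₁]
  [K.Additive] [PreservesFiniteLimits K] [PreservesFiniteColimits K]
  [ι₂.Additive] [PreservesFiniteLimits ι₂] [PreservesFiniteColimits ι₂]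
  [K₀.IsEquivalence] (e : K₀ ⋙ ι₂ ≅ ι₁ ⋙ K)
  (P : DerivedCategory A → Prop) (Q : DerivedCategory B → Prop)
  [hfull : ι₁.mapDerivedCategory.Full] [hfaith : ι₁.mapDerivedCategory.Faithful]
  (himg : ∀ X, P X ↔ ι₁.mapDerivedCategory.essImage X)
  (hmb : ∀ E E', P E → P E' → MapBij.MB K.mapDerivedCategory E E')
  (hgood : ∀ G, Q G ↔ ∃ E, P E ∧ Nonempty (K.mapDerivedCategory.obj E ≅ G))

include e himg hmb hgood in
/-- The derived inclusion is fully faithful with the expected image. -/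
theorem main : ι₂.mapDerivedCategory.Full ∧ ι₂.mapDerivedCategory.Faithful ∧
    ∀ G, ι₂.mapDerivedCategory.essImage G ↔ Q G := by
  haveI : K₀.Additive := Functor.additive_of_preserves_binary_products _
  haveI : K₀.inv.Additive := Functor.additive_of_preserves_binary_products _
  let adj : K₀ ⊣ K₀.inv := K₀.asEquivalence.toAdjunction
  haveI : IsIso adj.counit := inferInstance
  let J := K₀.inv.mapDerivedCategory
  haveI : J.Full := (H26DerPush.full_faithful adj).1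
  haveI : J.Faithful := (H26DerPush.full_faithful adj).2
  have hJ : ∀ Z, J.essImage Z := fun Z => (H26DerPush.essImage_iff adj Z).2 fun n =>
    Functor.EssSurj.mem_essImage (F := K₀.inv) _
  let T := ι₁.mapDerivedCategory ⋙ K.mapDerivedCategory
  obtain ⟨a⟩ : Nonempty (J ⋙ T ≅ ι₂.mapDerivedCategory) := by
    obtain ⟨c₁⟩ := BoundedEquiv.nonempty_mapDerivedCategory_comp K ι₁ (H := ι₁ ⋙ K) (Iso.refl _)
    obtain ⟨c₂⟩ := BoundedEquiv.nonempty_mapDerivedCategory_comp (ι₁ ⋙ K) K₀.inv (H := ι₂)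
      (Functor.isoWhiskerLeft K₀.inv e.symm ≪≫ (Functor.associator _ _ _).symm ≪≫
        Functor.isoWhiskerRight K₀.asEquivalence.counitIso ι₂ ≪≫ Functor.leftUnitor ι₂)
    exact ⟨Functor.isoWhiskerLeft J c₁ ≪≫ c₂⟩
  have hP : ∀ M, P (ι₁.mapDerivedCategory.obj M) := fun M => (himg _).2 (ι₁.mapDerivedCategory.obj_mem_essImage M)
  have hb : ∀ M M', Function.Bijective fun φ : M ⟶ M' => T.map φ := fun M M' =>
    (hmb _ _ (hP M) (hP M')).comp
      ((Functor.FullyFaithful.ofFullyFaithful ι₁.mapDerivedCategory).map_bijective M M')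
  haveI : T.Full := ⟨fun {M M'} f => (hb M M').2 f⟩
  haveI : T.Faithful := ⟨fun {M M'} {f g} h => (hb M M').1 h⟩
  refine ⟨Functor.Full.of_iso a, Functor.Faithful.of_iso a, fun G => ?_⟩
  rw [hgood]
  constructor
  · rintro ⟨M, ⟨i⟩⟩
    exact ⟨ι₁.mapDerivedCategory.obj (J.obj M), hP _, ⟨a.app M ≪≫ i⟩⟩
  · rintro ⟨E, hE, ⟨i⟩⟩
    obtain ⟨M, ⟨m⟩⟩ := (himg E).1 hE
    obtain ⟨L, ⟨l⟩⟩ := hJ M
    exact ⟨L, ⟨(a.app L).symm ≪≫ T.mapIso l ≪≫ K.mapDerivedCategory.mapIso m ≪≫ i⟩⟩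

end Groth.Agent.H8FSch.Algz.IndEquiv
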