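import Groth.Prelude.Def_FSch5
import Groth.Agent.H15Site.PullLocPres
import Groth.Agent.H24FMod.Algebraize

/-!
# Modules along an isomorphism of formal systems
-/

set_option autoImplicit false
set_option linter.style.haveILetI false
set_option linter.unusedSectionVars false
set_option backward.isDefEq.respectTransparency false

universe u

attribute [-instance] CategoryTheory.catToReflQuiver

open CategoryTheory CategoryTheory.Limits AlgebraicGeometry TopologicalSpace Opposite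

namespace Groth.Agent.H8FSch.Algz.SysIso

variable {𝔛 𝔜 ℨ : FSch.Sys.{u}} (h𝔛 : 𝔛.IsFormal) (h𝔜 : 𝔜.IsFormal) (hℨ : ℨ.IsFormal)

theorem levelPush_comp (f : 𝔛 ⟶ 𝔜) (g : 𝔜 ⟶ ℨ) (n : ℕ) :
    FSch.Hom.levelPush (f ≫ g) h𝔛 hℨ n = FSch.Hom.levelPush g h𝔜 hℨ n ≫
      (TopCat.Sheaf.pushforward CommRingCat.{u} ((g : FSch.Hom 𝔜 ℨ).app 0).base).map
        (FSch.Hom.levelPush f h𝔛 h𝔜 n) := by
  apply Sheaf.hom_ext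
  ext U : 2
  change _ = (FSch.Hom.levelPush g h𝔜 hℨ n).hom.app U ≫ (FSch.Hom.levelPush f h𝔛 h𝔜 n).hom.app
    (op ((g : FSch.Hom 𝔜 ℨ).app 0 ⁻¹ᵁ U.unop))
  rw [FSch.Hom.levelPush_app, FSch.Hom.levelPush_app, FSch.Hom.levelPush_app]
  exact (Scheme.Hom.appLE_comp_appLE _ _ _ _ _ _ _).symm

theorem levelPush_id (n : ℕ) : FSch.Hom.levelPush (𝟙 𝔛) h𝔛 h𝔛 n = 𝟙 _ := by
  apply Sheaf.hom_ext
  ext U : 2
  rw [FSch.Hom.levelPush_app]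
  change Scheme.Hom.appLE (𝟙 (𝔛.X n)) _ _ _ = _
  simp only [Scheme.Hom.appLE, Scheme.Hom.id_app, Category.id_comp]
  exact (𝔛.X n).presheaf.map_id _

theorem sharp_comp (f : 𝔛 ⟶ 𝔜) (g : 𝔜 ⟶ ℨ) :
    FSch.Hom.sharp (f ≫ g) h𝔛 hℨ = FSch.Hom.sharp g h𝔜 hℨ ≫
      (TopCat.Sheaf.pushforward CommRingCat.{u} ((g : FSch.Hom 𝔜 ℨ).app 0).base).map
        (FSch.Hom.sharp f h𝔛 h𝔜) := by
  refine (𝔛.isLimitPush h𝔛 (((f ≫ g : 𝔛 ⟶ ℨ) : FSch.Hom 𝔛 ℨ).app 0).base).hom_ext fun j => ?_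
  obtain ⟨n⟩ := j
  let G := TopCat.Sheaf.pushforward CommRingCat.{u} ((g : FSch.Hom 𝔜 ℨ).app 0).base
  let F := TopCat.Sheaf.pushforward CommRingCat.{u} ((f : FSch.Hom 𝔛 𝔜).app 0).base
  refine (FSch.Hom.sharp_proj (f ≫ g) h𝔛 hℨ n).trans ?_
  rw [levelPush_comp h𝔛 h𝔜 hℨ f g n]
  symm
  calc (FSch.Hom.sharp g h𝔜 hℨ ≫ G.map (FSch.Hom.sharp f h𝔛 h𝔜)) ≫ G.map (F.map (𝔛.OshProj h𝔛 n))
      = FSch.Hom.sharp g h𝔜 hℨ ≫ G.map (FSch.Hom.sharp f h𝔛 h𝔜 ≫ F.map (𝔛.OshProj h𝔛 n)) := by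
        rw [Category.assoc, G.map_comp]
    _ = FSch.Hom.sharp g h𝔜 hℨ ≫ G.map (𝔜.OshProj h𝔜 n) ≫ G.map (FSch.Hom.levelPush f h𝔛 h𝔜 n) := by
        rw [FSch.Hom.sharp_proj, G.map_comp]
    _ = ℨ.OshProj hℨ n ≫ FSch.Hom.levelPush g h𝔜 hℨ n ≫ G.map (FSch.Hom.levelPush f h𝔛 h𝔜 n) := by
        rw [← Category.assoc, FSch.Hom.sharp_proj, Category.assoc]

theorem sharp_id : FSch.Hom.sharp (𝟙 𝔛) h𝔛 h𝔛 = 𝟙 (𝔛.Osh h𝔛) := by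
  refine (𝔛.isLimitPush h𝔛 (((𝟙 𝔛 : 𝔛 ⟶ 𝔛) : FSch.Hom 𝔛 𝔛).app 0).base).hom_ext fun j => ?_
  obtain ⟨n⟩ := j
  refine (FSch.Hom.sharp_proj (𝟙 𝔛) h𝔛 h𝔛 n).trans ?_
  rw [levelPush_id h𝔛 n]
  exact (Category.comp_id _).trans (Category.id_comp _).symm

/-- Direct images compose. -/
theorem nonempty_pushF_comp (f : 𝔛 ⟶ 𝔜) (g : 𝔜 ⟶ ℨ) :
    Nonempty (FSch.pushF f h𝔛 h𝔜 ⋙ FSch.pushF g h𝔜 hℨ ≅ FSch.pushF (f ≫ g) h𝔛 hℨ) :=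
  ⟨SheafOfModules.pushforwardComp (FSch.homMor g h𝔜 hℨ).sharpR (FSch.homMor f h𝔛 h𝔜).sharpR ≪≫
    SheafOfModules.pushforwardCongr (R := ModSite.ringSh (𝔛.Osh h𝔛)) (S := ModSite.ringSh (ℨ.Osh hℨ))
      (F := (FSch.homMor (f ≫ g) h𝔛 hℨ).fn) (by
        refine Eq.trans ?_ (congrArg
          (fun s => (sheafCompose (Opens.grothendieckTopology (ℨ.X 0)) (forget₂ CommRingCat.{u} RingCat.{u})).map s)
          (sharp_comp h𝔛 h𝔜 hℨ f g)).symm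
        apply Sheaf.hom_ext
        rfl)⟩

/-- Direct image along the identity. -/
theorem nonempty_pushF_id : Nonempty (FSch.pushF (𝟙 𝔛) h𝔛 h𝔛 ≅ 𝟭 (FSch.ModF 𝔛 h𝔛)) :=
  ⟨SheafOfModules.pushforwardCongr (R := ModSite.ringSh (𝔛.Osh h𝔛)) (S := ModSite.ringSh (𝔛.Osh h𝔛))
    (F := (FSch.homMor (𝟙 𝔛) h𝔛 h𝔛).fn) (φ := (FSch.homMor (𝟙 𝔛) h𝔛 h𝔛).sharpR)
    (ψ := 𝟙 (ModSite.ringSh (𝔛.Osh h𝔛))) (by
      refine (congrArg (fun s => (sheafCompose _ (forget₂ CommRingCat.{u} RingCat.{u})).map s)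
        (sharp_id h𝔛)).trans ?_
      exact (sheafCompose _ (forget₂ CommRingCat.{u} RingCat.{u})).map_id _) ≪≫
    SheafOfModules.pushforwardId (ModSite.ringSh (𝔛.Osh h𝔛))⟩

/-- The equivalence of module categories of an isomorphism. -/
noncomputable def modEquiv (φ : 𝔛 ≅ 𝔜) : FSch.ModF 𝔛 h𝔛 ≌ FSch.ModF 𝔜 h𝔜 :=
  CategoryTheory.Equivalence.mk (FSch.pushF φ.hom h𝔛 h𝔜) (FSch.pushF φ.inv h𝔜 h𝔛)
    ((nonempty_pushF_id h𝔛).some.symm ≪≫ eqToIso (by rw [φ.hom_inv_id]) ≪≫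
      (nonempty_pushF_comp h𝔛 h𝔜 h𝔛 φ.hom φ.inv).some.symm)
    ((nonempty_pushF_comp h𝔜 h𝔛 h𝔜 φ.inv φ.hom).some ≪≫ eqToIso (by rw [φ.inv_hom_id]) ≪≫
      (nonempty_pushF_id h𝔜).some)

/-- The equivalence preserves coherence. -/
theorem isCohF_functor (φ : 𝔛 ≅ 𝔜) {M : FSch.ModF 𝔛 h𝔛} (hM : FSch.IsCohF 𝔛 h𝔛 M) :
    FSch.IsCohF 𝔜 h𝔜 ((modEquiv h𝔛 h𝔜 φ).functor.obj M) := by
  let e := modEquiv h𝔛 h𝔜 φ
  haveI : SheafOfModules.IsFinitePresentation (R := ModSite.ringSh (𝔛.Osh h𝔛)) M := hM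
  have h1 := H15Site.PullLocPres.isFinitePresentation_pull (FSch.homMor φ.inv h𝔜 h𝔛) M
  exact H24FMod.isCohF_of_iso
    (((Adjunction.leftAdjointUniq (FSch.homMor φ.inv h𝔜 h𝔛).adj e.toAdjunction)).app M) h1

theorem isCohF_inverse (φ : 𝔛 ≅ 𝔜) {M : FSch.ModF 𝔜 h𝔜} (hM : FSch.IsCohF 𝔜 h𝔜 M) :
    FSch.IsCohF 𝔛 h𝔛 ((modEquiv h𝔛 h𝔜 φ).inverse.obj M) := by
  let e := modEquiv h𝔛 h𝔜 φ
  haveI : SheafOfModules.IsFinitePresentation (R := ModSite.ringSh (𝔜.Osh h𝔜)) M := hM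
  have h1 := H15Site.PullLocPres.isFinitePresentation_pull (FSch.homMor φ.hom h𝔛 h𝔜) M
  exact H24FMod.isCohF_of_iso
    (((Adjunction.leftAdjointUniq (FSch.homMor φ.hom h𝔛 h𝔜).adj e.symm.toAdjunction)).app M) h1

end Groth.Agent.H8FSch.Algz.SysIso
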