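import Groth.Agent.H8FSch.Algz.Ess
import Groth.Agent.H8FSch.Algz.IndEquiv
import Groth.Agent.H8FSch.Algz.CompleteBase
import Groth.Agent.H8FSch.Algz.SysIso
import Groth.Agent.H16Derived.DQCoh.Noeth
import Groth.Agent.H17.GabRos.Categorical
import Groth.Agent.H8FSch.IndGroth

/-!
# Ind-coherent modules on a properly algebraic formal scheme
-/

set_option autoImplicit false
set_option linter.style.haveILetI false
set_option linter.unusedSectionVars false
set_option backward.isDefEq.respectTransparency false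

universe u

attribute [-instance] CategoryTheory.catToReflQuiver

open AlgebraicGeometry CategoryTheory CategoryTheory.Limits TopologicalSpace Opposite

namespace Groth.Agent.H8FSch.Algz.Ind47

open H16Derived

attribute [local instance] HasDerivedCategory.standard
attribute [local instance 10000] H15Site.SiteInst.hasSheafifySite H15Site.SiteInst.hasWeakSheafifySite

section

variable {A : Type u} [CommRing A] [IsNoetherianRing A] {I : Ideal A} [IsAdicComplete I A]
  {X : Scheme.{u}} (f : X ⟶ Spec (CommRingCat.of A)) [IsProper f] {𝓘 : X.IdealSheafData}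
  (h𝓘 : 𝓘 = (FSch.idealSpec A I).comap f) (hX' : (FSch.completionAlong X 𝓘).IsFormal)
  {𝔛 : FSch.Sys.{u}} (hX : 𝔛.IsFormal) (φ : FSch.completionAlong X 𝓘 ≅ 𝔛)

/-- Completion followed by transport. -/
noncomputable abbrev KT : X.Modules ⥤ FSch.ModF 𝔛 hX :=
  kP 𝓘 hX' ⋙ (SysIso.modEquiv hX' hX φ).functor

theorem coh_functor_iff (M : FSch.ModF (FSch.completionAlong X 𝓘) hX') :
    Coh 𝔛 hX ((SysIso.modEquiv hX' hX φ).functor.obj M) ↔ Coh (FSch.completionAlong X 𝓘) hX' M :=
  ⟨fun h => H24FMod.isCohF_of_iso ((SysIso.modEquiv hX' hX φ).unitIso.app M).symm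
    (SysIso.isCohF_inverse hX' hX φ h), fun h => SysIso.isCohF_functor hX' hX φ h⟩

theorem ind_functor (M : FSch.ModF (FSch.completionAlong X 𝓘) hX')
    (h : ObjectProperty.ind.{u} (Coh (FSch.completionAlong X 𝓘) hX') M) :
    ObjectProperty.ind.{u} (Coh 𝔛 hX) ((SysIso.modEquiv hX' hX φ).functor.obj M) := by
  obtain ⟨Λ, _, _, pres, hp⟩ := h
  exact ⟨Λ, inferInstance, inferInstance, pres.map _, fun j => SysIso.isCohF_functor hX' hX φ (hp j)⟩

theorem ind_inverse (M : FSch.ModF 𝔛 hX) (h : ObjectProperty.ind.{u} (Coh 𝔛 hX) M) :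
    ObjectProperty.ind.{u} (Coh (FSch.completionAlong X 𝓘) hX') ((SysIso.modEquiv hX' hX φ).inverse.obj M) := by
  obtain ⟨Λ, _, _, pres, hp⟩ := h
  exact ⟨Λ, inferInstance, inferInstance, pres.map _, fun j => SysIso.isCohF_inverse hX' hX φ (hp j)⟩

include f h𝓘 in
theorem ind_iff (M : FSch.ModF 𝔛 hX) :
    ObjectProperty.ind.{u} (Coh 𝔛 hX) M ↔
      ∃ G : X.Modules, Coh.IsQCoh G ∧ Nonempty ((KT hX' hX φ).obj G ≅ M) := by
  let e := SysIso.modEquiv hX' hX φ
  constructor
  · intro h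
    obtain ⟨G, hG, ⟨i⟩⟩ := (ind_iff_exists_pull f h𝓘 hX' _).1 (ind_inverse hX' hX φ M h)
    exact ⟨G, hG, ⟨e.functor.mapIso i ≪≫ e.counitIso.app M⟩⟩
  · rintro ⟨G, hG, ⟨i⟩⟩
    exact (ObjectProperty.ind.{u} (Coh 𝔛 hX)).prop_of_iso i
      (ind_functor hX' hX φ _ ((ind_iff_exists_pull f h𝓘 hX' _).2 ⟨G, hG, ⟨Iso.refl _⟩⟩))

include f h𝓘 in
theorem bijective_map (G H : X.Modules) (hG : Coh.IsQCoh G) (hH : Coh.IsQCoh H) :
    Function.Bijective (fun a : G ⟶ H => (KT hX' hX φ).map a) :=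
  ((Functor.FullyFaithful.ofFullyFaithful (SysIso.modEquiv hX' hX φ).functor).map_bijective _ _).comp
    (bijective_pull_map_qcoh f h𝓘 hX' G H hG hH)

include f in
theorem preservesFiniteLimits_KT : PreservesFiniteLimits (KT hX' hX φ) :=
  haveI := preservesFiniteLimits_kP f hX' (𝓘 := 𝓘)
  comp_preservesFiniteLimits _ _

theorem preservesFiniteColimits_KT : PreservesFiniteColimits (KT hX' hX φ) :=
  haveI := isLeftAdjoint_kP hX' (𝓘 := 𝓘)
  haveI : PreservesFiniteColimits (kP 𝓘 hX') := PreservesColimitsOfSize.preservesFiniteColimits.{0, 0} _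
  comp_preservesFiniteColimits _ _

include f h𝓘 in
/-- Full faithfulness of the derived completion followed by transport, and its image. -/
theorem derived_KT :
    haveI := preservesFiniteLimits_KT f hX' hX φ
    haveI := preservesFiniteColimits_KT hX' hX φ
    haveI : (KT hX' hX φ).Additive := Functor.additive_of_preserves_binary_products _
    (∀ E E' : DCoh.D X, DCoh.IsQCohD E → DCoh.IsQCohD E' →
      MapBij.MB (KT hX' hX φ).mapDerivedCategory E E') ∧
    ∀ G : DerivedCategory (FSch.ModF 𝔛 hX), DCompact.Good (ObjectProperty.ind.{u} (Coh 𝔛 hX)) G ↔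
      ∃ E : DCoh.D X, DCoh.IsQCohD E ∧ Nonempty ((KT hX' hX φ).mapDerivedCategory.obj E ≅ G) := by
  haveI := preservesFiniteLimits_kP f hX' (𝓘 := 𝓘)
  haveI : PreservesFiniteLimits (κ 𝓘 hX').pull := ‹PreservesFiniteLimits (kP 𝓘 hX')›
  haveI := preservesFiniteLimits_KT f hX' hX φ
  haveI := preservesFiniteColimits_KT hX' hX φ
  haveI : (KT hX' hX φ).Additive := Functor.additive_of_preserves_binary_products _
  let e := SysIso.modEquiv hX' hX φ
  haveI : e.functor.Additive := Functor.additive_of_preserves_binary_products _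
  haveI : e.inverse.Additive := Functor.additive_of_preserves_binary_products _
  let adj : e.functor ⊣ e.inverse := e.toAdjunction
  let adj' : e.inverse ⊣ e.functor := e.symm.toAdjunction
  haveI : IsIso adj'.counit := inferInstance
  let EF := e.functor.mapDerivedCategory
  haveI : EF.Full := (H26DerPush.full_faithful adj').1
  haveI : EF.Faithful := (H26DerPush.full_faithful adj').2
  haveI : (kP 𝓘 hX').Additive := additive_kP f hX'
  haveI := isLeftAdjoint_kP hX' (𝓘 := 𝓘)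
  haveI : PreservesFiniteColimits (kP 𝓘 hX') := PreservesColimitsOfSize.preservesFiniteColimits.{0, 0} _
  obtain ⟨c⟩ := BoundedEquiv.nonempty_mapDerivedCategory_comp e.functor (kP 𝓘 hX') (H := KT hX' hX φ) (Iso.refl _)
  refine ⟨fun E E' h h' => ?_, fun G => ⟨fun hG => ?_, ?_⟩⟩
  · have h0 : Function.Bijective fun a : E ⟶ E' => EF.map ((kD 𝓘 hX').map a) :=
      ((Functor.FullyFaithful.ofFullyFaithful EF).map_bijective _ _).comp (mb_qcoh f h𝓘 hX' E E' h h')
    have he : (fun a : E ⟶ E' => (KT hX' hX φ).mapDerivedCategory.map a) =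
        ((c.app E).homCongr (c.app E')) ∘ fun a : E ⟶ E' => EF.map ((kD 𝓘 hX').map a) := funext fun a => by
      simp only [Function.comp_apply, Iso.homCongr_apply, Iso.app_inv, Iso.app_hom]
      exact (NatIso.naturality_1 c a).symm
    show Function.Bijective fun a : E ⟶ E' => (KT hX' hX φ).mapDerivedCategory.map a
    rw [he]
    exact (Equiv.bijective _).comp h0
  · obtain ⟨Z, ⟨iZ⟩⟩ : EF.essImage G := (H26DerPush.essImage_iff adj' G).2 fun n =>
      Functor.EssSurj.mem_essImage (F := e.functor) _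
    obtain ⟨E, hE, ⟨iE⟩⟩ := exists_iso_of_good f h𝓘 hX' (W₀ := Z) fun q => by
      obtain ⟨eh⟩ := DFFAbs.nonempty_homology_map e.functor Z q
      let H := DerivedCategory.homologyFunctor (FSch.ModF 𝔛 hX) q
      exact (ObjectProperty.ind.{u} (Coh (FSch.completionAlong X 𝓘) hX')).prop_of_iso
        (e.inverse.mapIso ((H.mapIso iZ).symm ≪≫ eh) ≪≫ (e.unitIso.app _).symm)
        (ind_inverse hX' hX φ _ (hG q))
    exact ⟨E, hE, ⟨(c.app E).symm ≪≫ EF.mapIso iE ≪≫ iZ⟩⟩
  · rintro ⟨E, hE, ⟨i⟩⟩ q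
    obtain ⟨eh⟩ := DFFAbs.nonempty_homology_map e.functor ((kD 𝓘 hX').obj E) q
    let H := DerivedCategory.homologyFunctor (FSch.ModF 𝔛 hX) q
    exact (ObjectProperty.ind.{u} (Coh 𝔛 hX)).prop_of_iso (eh.symm ≪≫ H.mapIso (c.app E) ≪≫ H.mapIso i)
      (ind_functor hX' hX φ _ (good_kD f hX' h𝓘 E hE q))

end

theorem result (B : Type u) [CommRing B] [IsNoetherianRing B] (J : Ideal B)
    {X : Scheme.{u}} (f : X ⟶ Spec (CommRingCat.of B)) [IsProper f]
    (𝓘 : X.IdealSheafData) (h𝓘 : 𝓘 = (FSch.idealSpec B J).comap f)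
    (hX : (FSch.completionAlong X 𝓘).IsFormal)
    [(ObjectProperty.ind.{u} (Coh (FSch.completionAlong X 𝓘) hX)).ContainsZero]
    [(ObjectProperty.ind.{u} (Coh (FSch.completionAlong X 𝓘) hX)).IsClosedUnderKernels]
    [(ObjectProperty.ind.{u} (Coh (FSch.completionAlong X 𝓘) hX)).IsClosedUnderCokernels]
    [(ObjectProperty.ind.{u} (Coh (FSch.completionAlong X 𝓘) hX)).IsClosedUnderFiniteProducts]
    [PreservesFiniteLimits (ObjectProperty.ind.{u} (Coh (FSch.completionAlong X 𝓘) hX)).ι]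
    [PreservesFiniteColimits (ObjectProperty.ind.{u} (Coh (FSch.completionAlong X 𝓘) hX)).ι] :
    (ObjectProperty.ind.{u} (Coh (FSch.completionAlong X 𝓘) hX)).ι.mapDerivedCategory.Full ∧
      (ObjectProperty.ind.{u} (Coh (FSch.completionAlong X 𝓘) hX)).ι.mapDerivedCategory.Faithful ∧
      ∀ G : DerivedCategory (FSch.ModF (FSch.completionAlong X 𝓘) hX),
        (ObjectProperty.ind.{u} (Coh (FSch.completionAlong X 𝓘) hX)).ι.mapDerivedCategory.essImage G ↔
          DCompact.Good (ObjectProperty.ind.{u} (Coh (FSch.completionAlong X 𝓘) hX)) G := by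
  obtain ⟨A, _, _, I, _, X', f', _, 𝓘', h𝓘', ⟨φ⟩⟩ := CompleteBase.exists_complete_model B J f 𝓘 h𝓘
  haveI := isLocallyNoetherian f'
  haveI := compactSpace f'
  haveI : IsNoetherian X' := ⟨⟩
  have hX' : (FSch.completionAlong X' 𝓘').IsFormal := (isLocNoeth f' (𝓘 := 𝓘')).1
  let K := KT hX' hX φ
  haveI := preservesFiniteLimits_KT f' hX' hX φ
  haveI := preservesFiniteColimits_KT hX' hX φ
  haveI : K.Additive := Functor.additive_of_preserves_binary_products _
  let q := CohQCoh.q X'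
  haveI : q.ContainsZero := inferInstanceAs (QCohCat.isQCoh X').ContainsZero
  haveI : q.IsClosedUnderKernels := inferInstanceAs (QCohCat.isQCoh X').IsClosedUnderKernels
  haveI : q.IsClosedUnderCokernels := inferInstanceAs (QCohCat.isQCoh X').IsClosedUnderCokernels
  haveI : q.IsClosedUnderFiniteProducts := inferInstanceAs (QCohCat.isQCoh X').IsClosedUnderFiniteProducts
  haveI : PreservesFiniteLimits q.ι := inferInstanceAs (PreservesFiniteLimits (QCohCat.isQCoh X').ι)
  haveI : PreservesFiniteColimits q.ι := inferInstanceAs (PreservesFiniteColimits (QCohCat.isQCoh X').ι)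
  let P₂ := ObjectProperty.ind.{u} (Coh (FSch.completionAlong X 𝓘) hX)
  let K₀ : q.FullSubcategory ⥤ P₂.FullSubcategory :=
    P₂.lift (q.ι ⋙ K) fun G => (ind_iff f' h𝓘' hX' hX φ _).2 ⟨G.obj, G.property, ⟨Iso.refl _⟩⟩
  haveI : K₀.Full := ⟨fun {G H} a => by
    obtain ⟨b, hb⟩ := (bijective_map f' h𝓘' hX' hX φ G.obj H.obj G.property H.property).2 a.hom
    exact ⟨ObjectProperty.homMk b, ObjectProperty.hom_ext _ hb⟩⟩
  haveI : K₀.Faithful := ⟨fun {G H a b} h => ObjectProperty.hom_ext _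
    ((bijective_map f' h𝓘' hX' hX φ G.obj H.obj G.property H.property).1 (congrArg (·.hom) h))⟩
  haveI : K₀.EssSurj := ⟨fun M => by
    obtain ⟨G, hG, ⟨i⟩⟩ := (ind_iff f' h𝓘' hX' hX φ M.obj).1 M.property
    exact ⟨⟨G, hG⟩, ⟨P₂.isoMk i⟩⟩⟩
  haveI : K₀.IsEquivalence := { }
  obtain ⟨n, ⟨U⟩⟩ := DQCoh.exists_ncharts X'
  haveI : q.ι.mapDerivedCategory.Full := (DQCoh.full_faithful_noeth U).1
  haveI : q.ι.mapDerivedCategory.Faithful := (DQCoh.full_faithful_noeth U).2
  obtain ⟨hmb, hgood⟩ := derived_KT f' h𝓘' hX' hX φ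
  exact IndEquiv.main q.ι K P₂.ι K₀ (Iso.refl _) (fun E : DCoh.D X' => DCoh.IsQCohD E)
    (fun G => DCompact.Good P₂ G) (DQCoh.isQCohD_iff_noeth U) hmb hgood

end Groth.Agent.H8FSch.Algz.Ind47
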