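import Groth.Agent.H8FSch.Algz.Ind47
import Groth.Agent.H8FSch.RpushAdjoint
import Groth.Agent.H8FSch.WeakSerre

/-!
# The right adjoint of `Rg_*` on complexes with ind-coherent cohomology
-/

set_option autoImplicit false
set_option linter.style.haveILetI false
set_option linter.unusedSectionVars false
set_option backward.isDefEq.respectTransparency false

universe u

attribute [-instance] CategoryTheory.catToReflQuiver

open AlgebraicGeometry CategoryTheory CategoryTheory.Limits TopologicalSpace Opposite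

namespace Groth.Agent.H8FSch.Algz.Left48

attribute [local instance] HasDerivedCategory.standard
attribute [local instance 10000] H15Site.SiteInst.hasSheafifySite H15Site.SiteInst.hasWeakSheafifySite

/-- Restricting to the essential image of a fully faithful functor. -/
theorem isLeftAdjoint_of_image {D₁ D₂ D₃ : Type*} [Category D₁] [Category D₂] [Category D₃]
    (ι : D₁ ⥤ D₂) [ι.Full] [ι.Faithful] (P : ObjectProperty D₂) (hP : ∀ G, ι.essImage G ↔ P G)
    (R : D₂ ⥤ D₃) (h : (ι ⋙ R).IsLeftAdjoint) : (P.ι ⋙ R).IsLeftAdjoint := by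
  let E := P.lift ι fun M => (hP _).1 (ι.obj_mem_essImage M)
  haveI : E.EssSurj := ⟨fun G => let ⟨M, ⟨i⟩⟩ := (hP _).2 G.property; ⟨M, ⟨P.isoMk i⟩⟩⟩
  haveI : E.Full := ⟨fun {M N} a => ⟨ι.preimage a.hom, ObjectProperty.hom_ext _ (ι.map_preimage _)⟩⟩
  haveI : E.Faithful := ⟨fun {M N a b} e => ι.map_injective (congrArg (·.hom) e)⟩
  haveI : E.IsEquivalence := { }
  haveI := h
  exact Functor.isLeftAdjoint_of_iso (F := E.inv ⋙ ι ⋙ R)
    ((Functor.associator _ _ _).symm ≪≫ Functor.isoWhiskerRight
      (show E.inv ⋙ ι ≅ P.ι from (Functor.associator E.inv E P.ι).symm ≪≫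
        Functor.isoWhiskerRight E.asEquivalence.counitIso P.ι ≪≫ Functor.leftUnitor _) R)

/-- The inclusion of a class closed under kernels and finite products is left exact. -/
theorem preservesFiniteLimits_ι {C : Type*} [Category C] [Abelian C] (P : ObjectProperty C) [P.ContainsZero]
    [P.IsClosedUnderKernels] [P.IsClosedUnderCokernels] [P.IsClosedUnderFiniteProducts] :
    PreservesFiniteLimits P.ι := by
  haveI := P.preservesKernels_ι
  exact Functor.preservesFiniteLimits_of_preservesKernels _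

theorem result (B : Type u) [CommRing B] [IsNoetherianRing B] (J : Ideal B)
    {X : Scheme.{u}} (f : X ⟶ Spec (CommRingCat.of B)) [IsProper f]
    (𝓘 : X.IdealSheafData) (h𝓘 : 𝓘 = (FSch.idealSpec B J).comap f)
    (hX : (FSch.completionAlong X 𝓘).IsFormal)
    (𝔜 : FSch.Sys.{u}) (h𝔜 : 𝔜.IsFormal) (g : FSch.completionAlong X 𝓘 ⟶ 𝔜)
    [SiteCmp.HasRpushD (FSch.homMor g hX h𝔜)] :
    (ObjectProperty.ι (fun G : DerivedCategory (FSch.ModF (FSch.completionAlong X 𝓘) hX) =>
        DCompact.Good (ObjectProperty.ind.{u} (Coh (FSch.completionAlong X 𝓘) hX)) G) ⋙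
      SiteCmp.RpushD (FSch.homMor g hX h𝔜)).IsLeftAdjoint := by
  haveI := isLocallyNoetherian f
  haveI := compactSpace_completion f (𝓘 := 𝓘)
  have hL : (FSch.completionAlong X 𝓘).IsLocNoethFormal := H24FSch.isLocNoethFormal_completionAlong X 𝓘
  let P := ObjectProperty.ind.{u} (Coh (FSch.completionAlong X 𝓘) hX)
  haveI : WSerre.IsWeakSerre P := isWeakSerre_ind hL
  haveI : P.ι.IsLeftAdjoint := isLeftAdjoint_ι' hL
  haveI : P.IsClosedUnderFiniteProducts := inferInstance
  haveI : PreservesFiniteLimits P.ι := preservesFiniteLimits_ι P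
  haveI : PreservesFiniteColimits P.ι := by
    haveI := Adjunction.leftAdjoint_preservesColimits (Adjunction.ofIsLeftAdjoint P.ι)
    exact PreservesColimitsOfSize.preservesFiniteColimits.{0, 0} _
  obtain ⟨hfull, hfaith, himg⟩ := Ind47.result B J f 𝓘 h𝓘 hX
  haveI := hfull
  haveI := hfaith
  exact isLeftAdjoint_of_image _ _ himg _ (RpushAdjoint.isLeftAdjoint hL h𝔜 g)

end Groth.Agent.H8FSch.Algz.Left48
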