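import Groth.Agent.H8FSch.Algz.CohFF
import Groth.Agent.H8FSch.Compact
import Groth.Agent.H17.FPExt.Compact
import Groth.Agent.H17.ConsModModels
import Groth.Agent.H10Coh.FinType2
import Groth.Agent.H10Coh.QCohOps
import Groth.Agent.H10Coh.QCohExt
import Groth.Agent.H8FSch.IndCoh

/-!
# Completion of quasi-coherent modules on a proper scheme over a complete ring
-/

set_option autoImplicit false
set_option linter.style.haveILetI false
set_option linter.unusedSectionVars false

universe u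

attribute [-instance] CategoryTheory.catToReflQuiver

open AlgebraicGeometry CategoryTheory CategoryTheory.Limits TopologicalSpace Opposite

namespace Groth.Agent.H8FSch.Algz

attribute [local instance 10000] H15Site.SiteInst.hasSheafifySite H15Site.SiteInst.hasWeakSheafifySite

variable {A : Type u} [CommRing A] [IsNoetherianRing A] {I : Ideal A} [IsAdicComplete I A]
  {X : Scheme.{u}} (f : X ⟶ Spec (CommRingCat.of A)) [IsProper f] {𝓘 : X.IdealSheafData}
  (h𝓘 : 𝓘 = (FSch.idealSpec A I).comap f) (hX : (FSch.completionAlong X 𝓘).IsFormal)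

/-- The inverse image along the completion morphism. -/
noncomputable abbrev kP (𝓘 : X.IdealSheafData) (hX : (FSch.completionAlong X 𝓘).IsFormal) :
    X.Modules ⥤ FSch.ModF (FSch.completionAlong X 𝓘) hX := (κ 𝓘 hX).pull

theorem isLeftAdjoint_kP : (kP 𝓘 hX).IsLeftAdjoint := ⟨_, ⟨(κ 𝓘 hX).adj⟩⟩

include f in
theorem preservesFiniteLimits_kP : PreservesFiniteLimits (kP 𝓘 hX) := isFlat_κ f hX

include f in
theorem additive_kP : (kP 𝓘 hX).Additive :=
  haveI := preservesFiniteLimits_kP f hX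
  Functor.additive_of_preserves_binary_products _

theorem preservesColimitsOfShape_kP (J : Type u) [SmallCategory J] : PreservesColimitsOfShape J (kP 𝓘 hX) :=
  haveI := isLeftAdjoint_kP hX (𝓘 := 𝓘)
  inferInstance

include f in
theorem isCohF_pull (M : X.Modules) (hM : Coh.IsCoh M) :
    FSch.IsCohF (FSch.completionAlong X 𝓘) hX ((κ 𝓘 hX).pull.obj M) := by
  haveI := isLocallyNoetherian f
  haveI : SheafOfModules.IsFinitePresentation (R := ModSite.ringSh X.sheaf) M :=
    H24FMod.isFinitePresentation_of_isCoh hM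
  exact H15Site.PullLocPres.isFinitePresentation_pull (κ 𝓘 hX) M

include f h𝓘 in
theorem isZero_of_isZero_pull (M : X.Modules) (hM : Coh.IsCoh M) (h : IsZero ((κ 𝓘 hX).pull.obj M)) :
    IsZero M :=
  (IsZero.iff_id_eq_zero _).2 ((bijective_pull_map_coh f h𝓘 hX M M hM hM).1 (h.eq_of_src _ _))

include f h𝓘 in
theorem injective_pull_map_coh_qcoh (M H : X.Modules) (hM : Coh.IsCoh M) (hH : Coh.IsQCoh H) :
    Function.Injective (fun φ : M ⟶ H => (κ 𝓘 hX).pull.map φ) := by
  haveI := preservesFiniteLimits_kP f hX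
  let K := kP 𝓘 hX
  haveI : K.IsLeftAdjoint := isLeftAdjoint_kP hX
  haveI : K.Additive := additive_kP f hX
  intro φ φ' he
  rw [← sub_eq_zero]
  have h0 : K.map (φ - φ') = 0 := by rw [Functor.map_sub, sub_eq_zero]; exact he
  generalize φ - φ' = ψ at h0 ⊢
  haveI : M.IsQuasicoherent := hM.1
  haveI : H.IsQuasicoherent := hH
  have hC : Coh.IsCoh (Abelian.coimage ψ) :=
    H10Coh.isCoh_cokernel (kernel.ι ψ) (H10Coh.isQuasicoherent_kernel ψ) hM
  have h1 : K.map (Abelian.coimage.π ψ) ≫ K.map (Abelian.factorThruCoimage ψ) =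
      K.map (Abelian.coimage.π ψ) ≫ 0 := by
    rw [← Functor.map_comp, Abelian.coimage.fac, h0, comp_zero]
  haveI : Epi (K.map (Abelian.coimage.π ψ)) := inferInstance
  have h2 := (cancel_epi _).1 h1
  haveI : Mono (K.map (Abelian.factorThruCoimage ψ)) := inferInstance
  have hz : IsZero (K.obj (Abelian.coimage ψ)) := (IsZero.iff_id_eq_zero _).2 (by
    rw [← cancel_mono (K.map (Abelian.factorThruCoimage ψ)), zero_comp, Category.id_comp, h2])
  rw [← Abelian.coimage.fac ψ, (isZero_of_isZero_pull f h𝓘 hX _ hC hz).eq_of_tgt (Abelian.coimage.π ψ) 0,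
    zero_comp]

include f h𝓘 in
theorem bijective_pull_map_coh_qcoh (M H : X.Modules) (hM : Coh.IsCoh M) (hH : Coh.IsQCoh H) :
    Function.Bijective (fun φ : M ⟶ H => (κ 𝓘 hX).pull.map φ) := by
  refine ⟨injective_pull_map_coh_qcoh f h𝓘 hX M H hM hH, fun θ => ?_⟩
  haveI := isLocallyNoetherian f
  haveI := compactSpace f
  haveI : IsNoetherian X := ⟨⟩
  haveI hN0 := (isLocNoeth f (𝓘 := 𝓘)).2.2 0
  haveI := compactSpace_completion f (𝓘 := 𝓘)
  haveI : IsNoetherian ((FSch.completionAlong X 𝓘).X 0) := ⟨⟩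
  let K := kP 𝓘 hX
  obtain ⟨Λ, _, _, D, c, hc, hD, rfl⟩ := H17.FPExt.exists_isColimit_fp H hH
  haveI := preservesColimitsOfShape_kP hX (𝓘 := 𝓘) Λ
  haveI : SheafOfModules.IsFinitePresentation (R := ModSite.ringSh ((FSch.completionAlong X 𝓘).Osh hX)) (K.obj M) :=
    isCohF_pull f hX M hM
  obtain ⟨k, ψ, hψ⟩ := H8FSch.exists_lift (isColimitOfPreserves K hc) θ
  obtain ⟨a, ha⟩ := (bijective_pull_map_coh f h𝓘 hX M (D.obj k) hM (H17.ConsProp.isCoh_of_isFP (hD k))).2 ψ
  refine ⟨a ≫ c.ι.app k, ?_⟩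
  exact (K.map_comp _ _).trans ((congrArg (· ≫ K.map (c.ι.app k)) ha).trans hψ)

include f h𝓘 in
/-- The completion is fully faithful on quasi-coherent modules. -/
theorem bijective_pull_map_qcoh (G H : X.Modules) (hG : Coh.IsQCoh G) (hH : Coh.IsQCoh H) :
    Function.Bijective (fun φ : G ⟶ H => (κ 𝓘 hX).pull.map φ) := by
  haveI := isLocallyNoetherian f
  haveI := compactSpace f
  haveI : IsNoetherian X := ⟨⟩
  let K := kP 𝓘 hX
  obtain ⟨Λ, _, _, D, c, hc, hD, rfl⟩ := H17.FPExt.exists_isColimit_fp G hG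
  haveI := preservesColimitsOfShape_kP hX (𝓘 := 𝓘) Λ
  have hb := fun j => bijective_pull_map_coh_qcoh f h𝓘 hX (D.obj j) H (H17.ConsProp.isCoh_of_isFP (hD j)) hH
  refine ⟨fun φ φ' he => hc.hom_ext fun j => (hb j).1 ?_, fun θ => ?_⟩
  · exact (K.map_comp _ _).trans ((congrArg (K.map (c.ι.app j) ≫ ·) he).trans (K.map_comp _ _).symm)
  · choose φ hφ using fun j => (hb j).2 (K.map (c.ι.app j) ≫ θ)
    let s : Cocone D :=
      { pt := H
        ι :=
          { app := φ
            naturality := fun i j m => by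
              refine ((hb i).1 ?_).trans (Category.comp_id _).symm
              refine (K.map_comp _ _).trans ((congrArg (K.map (D.map m) ≫ ·) (hφ j)).trans
                (Eq.trans ?_ (hφ i).symm))
              exact (Category.assoc _ _ _).symm.trans (congrArg (· ≫ θ)
                ((K.map_comp _ _).symm.trans (congrArg K.map (c.w m)))) } }
    refine ⟨hc.desc s, (isColimitOfPreserves K hc).hom_ext fun j => ?_⟩
    exact (K.map_comp _ _).symm.trans ((congrArg K.map (hc.fac s j)).trans (hφ j))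

include f h𝓘 in
/-- The ind-coherent modules on the completion are the completions of quasi-coherent modules. -/
theorem ind_iff_exists_pull (𝔉 : FSch.ModF (FSch.completionAlong X 𝓘) hX) :
    ObjectProperty.ind.{u} (Coh (FSch.completionAlong X 𝓘) hX) 𝔉 ↔
      ∃ G : X.Modules, Coh.IsQCoh G ∧ Nonempty ((κ 𝓘 hX).pull.obj G ≅ 𝔉) := by
  haveI := isLocallyNoetherian f
  haveI := compactSpace f
  haveI : IsNoetherian X := ⟨⟩
  let K := kP 𝓘 hX
  constructor
  · rintro ⟨Λ, _, _, pres, hp⟩
    choose G hG e using fun j => exists_coh_pull_iso f h𝓘 hX (pres.diag.obj j) (hp j)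
    have ε : ∀ j, K.obj (G j) ≅ pres.diag.obj j := fun j => (e j).some
    choose m hm using fun (p : Σ i j : Λ, (i ⟶ j)) =>
      (bijective_pull_map_coh f h𝓘 hX (G p.1) (G p.2.1) (hG _) (hG _)).2
        ((ε p.1).hom ≫ pres.diag.map p.2.2 ≫ (ε p.2.1).inv)
    have hinj : ∀ i j, Function.Injective (fun φ : G i ⟶ G j => K.map φ) := fun i j =>
      (bijective_pull_map_coh f h𝓘 hX (G i) (G j) (hG _) (hG _)).1
    let D : Λ ⥤ X.Modules :=
      { obj := G
        map := fun {i j} a => m ⟨i, j, a⟩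
        map_id := fun i => hinj i i <| by
          refine (hm ⟨i, i, 𝟙 i⟩).trans ?_
          rw [CategoryTheory.Functor.map_id, Category.id_comp, Iso.hom_inv_id]
          exact (K.map_id _).symm
        map_comp := fun {i j k} a b => hinj i k <| by
          refine (hm ⟨i, k, a ≫ b⟩).trans (Eq.trans ?_ (K.map_comp _ _).symm)
          refine Eq.trans ?_ (congrArg₂ (· ≫ ·) (hm ⟨i, j, a⟩) (hm ⟨j, k, b⟩)).symm
          simp }
    haveI := preservesColimitsOfShape_kP hX (𝓘 := 𝓘) Λ
    refine ⟨colimit D, H10Coh.isQuasicoherent_colimit D fun j => (hG j).1, ⟨?_⟩⟩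
    let w : D ⋙ K ≅ pres.diag := NatIso.ofComponents ε fun {i j} a => by
      refine (congrArg (· ≫ (ε j).hom) (hm ⟨i, j, a⟩)).trans ?_
      simp
    exact IsColimit.coconePointsIsoOfNatIso (isColimitOfPreserves K (colimit.isColimit D)) pres.isColimit w
  · rintro ⟨G, hG, ⟨e⟩⟩
    obtain ⟨Λ, _, _, D, c, hc, hD, rfl⟩ := H17.FPExt.exists_isColimit_fp G hG
    haveI := preservesColimitsOfShape_kP hX (𝓘 := 𝓘) Λ
    exact (ObjectProperty.ind.{u} (Coh (FSch.completionAlong X 𝓘) hX)).prop_of_iso e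
      ⟨Λ, inferInstance, inferInstance,
        (ColimitPresentation.mk (X := c.pt) D c.ι (hc.ofIsoColimit (Cocone.ext (Iso.refl _)))).map K,
        fun j => isCohF_pull f hX _ (H17.ConsProp.isCoh_of_isFP (hD j))⟩

end Groth.Agent.H8FSch.Algz
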