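import Groth.Agent.H8FSch.Algz.QCoh
import Groth.Agent.H15Site.ClosedMod.Basic
import Groth.Prelude.Def_DerComp

/-!
# The unit of completion on modules killed by a power of the ideal; scalars; exactness of direct image
-/

set_option autoImplicit false
set_option linter.style.haveILetI false
set_option linter.unusedSectionVars false
set_option backward.isDefEq.respectTransparency false

universe u v w

attribute [-instance] CategoryTheory.catToReflQuiver

open AlgebraicGeometry CategoryTheory CategoryTheory.Limits TopologicalSpace Opposite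

namespace Groth.Agent.H8FSch.Algz

attribute [local instance 10000] H15Site.SiteInst.hasSheafifySite H15Site.SiteInst.hasWeakSheafifySite

/-- A map into a limit of a tower with eventually bijective components. -/
theorem isIso_of_eventually {C : Type v} [Category.{w} C] {D : ℕᵒᵖ ⥤ C} {c : Cone D} (hc : IsLimit c)
    {N : C} (a : N ⟶ c.pt) (k : ℕ) (h : ∀ j, k ≤ j → IsIso (a ≫ c.π.app (op j))) : IsIso a := by
  haveI := h k le_rfl
  let b := c.π.app (op k) ≫ inv (a ≫ c.π.app (op k))
  refine ⟨b, ?_, hc.hom_ext fun j => ?_⟩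
  · exact (Category.assoc _ _ _).symm.trans (IsIso.hom_inv_id _)
  · obtain ⟨j⟩ := j
    refine Eq.trans (Category.assoc _ _ _) (Eq.trans ?_ (Category.id_comp _).symm)
    rcases le_total k j with hj | hj
    · let t : (op j : ℕᵒᵖ) ⟶ op k := (homOfLE hj).op
      haveI := h j hj
      haveI : IsIso ((a ≫ c.π.app (op j)) ≫ D.map t) := by rw [Category.assoc, c.w]; infer_instance
      haveI : IsIso (D.map t) := IsIso.of_isIso_comp_left (a ≫ c.π.app (op j)) (D.map t)
      refine (cancel_mono (D.map t)).1 ?_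
      simp only [b, Category.assoc, c.w, IsIso.inv_hom_id, Category.comp_id]
    · let t : (op k : ℕᵒᵖ) ⟶ op j := (homOfLE hj).op
      rw [← c.w t, Category.assoc, ← Category.assoc a, IsIso.inv_hom_id_assoc]

section Scalars

variable {Z X : TopCat.{u}} (i : Z ⟶ X) {O_Z : TopCat.Sheaf CommRingCat.{u} Z}
  {O_X : TopCat.Sheaf CommRingCat.{u} X}
  (c : O_X ⟶ ((Opens.map i).sheafPushforwardContinuous CommRingCat.{u}
    (Opens.grothendieckTopology X) (Opens.grothendieckTopology Z)).obj O_Z)

/-- The image of a global scalar. -/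
noncomputable def sharpGSec (s : DerComp.GSec O_X) : DerComp.GSec O_Z :=
  ⟨fun V => O_Z.obj.map (homOfLE (fun _ _ => trivial : V ≤ (Opens.map i).obj ⊤)).op
      ((c.hom.app (op (⊤ : Opens X))).hom (s.1 ⊤)), fun U V g =>
    (ConcreteCategory.congr_hom (O_Z.obj.map_comp _ g.op) _).symm.trans
      (congrArg (fun k => (O_Z.obj.map k).hom _) (Subsingleton.elim _ _))⟩

theorem sharpGSec_apply (s : DerComp.GSec O_X) (U : Opens X) :
    (sharpGSec i c s).1 ((Opens.map i).obj U) = (c.hom.app (op U)).hom (s.1 U) := by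
  refine Eq.trans ?_ (congrArg (c.hom.app (op U)).hom (DerComp.GSec.compat s (homOfLE le_top : U ⟶ ⊤)))
  refine Eq.trans ?_ (ConcreteCategory.congr_hom (c.hom.naturality (homOfLE le_top : U ⟶ (⊤ : Opens X)).op) (s.1 ⊤)).symm
  exact congrArg (fun k => (O_Z.obj.map k).hom _) (Subsingleton.elim _ _)

theorem push_smulEnd (s : DerComp.GSec O_X) (M : ModSite.Mod O_Z) :
    (ModSite.RMor.ofFlat (Opens.map i) c).push.map (DerComp.smulEnd (sharpGSec i c s) M) =
      DerComp.smulEnd s ((ModSite.RMor.ofFlat (Opens.map i) c).push.obj M) :=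
  SheafOfModules.hom_ext (PresheafOfModules.hom_ext fun U => ModuleCat.hom_ext (LinearMap.ext fun x => by
    exact congrArg (fun r : (ModSite.ringSh O_Z).obj.obj (op ((Opens.map i).obj U.unop)) =>
      r • (show M.val.obj (op ((Opens.map i).obj U.unop)) from x)) (sharpGSec_apply i c s U.unop)))

/-- The composite of inverse and direct image is linear for global scalars. -/
theorem push_pull_smulEnd (s : DerComp.GSec O_X) (M : ModSite.Mod O_X) :
    (ModSite.RMor.ofFlat (Opens.map i) c).push.map ((ModSite.RMor.ofFlat (Opens.map i) c).pull.map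
        (DerComp.smulEnd s M)) =
      DerComp.smulEnd s
        ((ModSite.RMor.ofFlat (Opens.map i) c).push.obj ((ModSite.RMor.ofFlat (Opens.map i) c).pull.obj M)) := by
  let S := ModSite.RMor.ofFlat (Opens.map i) c
  rw [← push_smulEnd i c s]
  refine congrArg S.push.map ((S.adj.homEquiv _ _).injective ?_)
  rw [Adjunction.homEquiv_unit, Adjunction.homEquiv_unit, push_smulEnd]
  exact (S.adj.unit.naturality _).symm.trans (DerComp.smulEnd_comm s _)

end Scalars

variable {A : Type u} [CommRing A] [IsNoetherianRing A] {I : Ideal A} [IsAdicComplete I A]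
  {X : Scheme.{u}} (f : X ⟶ Spec (CommRingCat.of A)) [IsProper f] {𝓘 : X.IdealSheafData}
  (h𝓘 : 𝓘 = (FSch.idealSpec A I).comap f) (hX : (FSch.completionAlong X 𝓘).IsFormal)

/-- The direct image along the completion morphism. -/
noncomputable abbrev pP (𝓘 : X.IdealSheafData) (hX : (FSch.completionAlong X 𝓘).IsFormal) :
    FSch.ModF (FSch.completionAlong X 𝓘) hX ⥤ X.Modules := (κ 𝓘 hX).push

/-- The adjunction. -/
noncomputable abbrev kAdj (𝓘 : X.IdealSheafData) (hX : (FSch.completionAlong X 𝓘).IsFormal) :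
    kP 𝓘 hX ⊣ pP 𝓘 hX := (κ 𝓘 hX).adj

theorem preservesFiniteColimits_pP : PreservesFiniteColimits (pP 𝓘 hX) :=
  haveI : IsClosedImmersion (FSch.completionToX X 𝓘 0) :=
    inferInstanceAs (IsClosedImmersion (𝓘 ^ (0 + 1)).subschemeι)
  H15Site.ClosedMod.preservesFiniteColimits (i := (FSch.completionToX X 𝓘 0).base)
    (c := FSch.schSharp (FSch.completionAlong X 𝓘) hX (FSch.completionToX X 𝓘) (FSch.completionToX_comm X 𝓘))
    (FSch.completionToX X 𝓘 0).isClosedEmbedding

theorem preservesFiniteLimits_pP : PreservesFiniteLimits (pP 𝓘 hX) :=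
  haveI : (pP 𝓘 hX).IsRightAdjoint := (kAdj 𝓘 hX).isRightAdjoint
  inferInstance

theorem additive_pP : (pP 𝓘 hX).Additive :=
  haveI : (pP 𝓘 hX).IsRightAdjoint := (kAdj 𝓘 hX).isRightAdjoint
  Functor.additive_of_preserves_binary_products _

/-- Scalars commute with inverse and direct image along the completion morphism. -/
theorem kappa_smulEnd (s : DerComp.GSec X.sheaf) (M : ModSite.Mod X.sheaf) :
    (κ 𝓘 hX).push.map ((κ 𝓘 hX).pull.map (DerComp.smulEnd s M)) =
      DerComp.smulEnd s ((κ 𝓘 hX).push.obj ((κ 𝓘 hX).pull.obj M)) :=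
  push_pull_smulEnd (FSch.completionToX X 𝓘 0).base
    (FSch.schSharp (FSch.completionAlong X 𝓘) hX (FSch.completionToX X 𝓘) (FSch.completionToX_comm X 𝓘)) s M

variable [X.Over (Spec (CommRingCat.of A))] (hf : X ↘ Spec (CommRingCat.of A) = f)

include f h𝓘 hf in
/-- The direct image of the completion is the limit of the reductions. -/
theorem nonempty_push_pull_iso (F : X.Modules) (hF : Coh.IsCoh F) :
    Nonempty ((pP 𝓘 hX).obj ((kP 𝓘 hX).obj F) ≅ limit (Formal.completion I F)) := by
  haveI := isLocallyNoetherian f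
  haveI := H24FMod.isClosedImmersion_completionToX (𝓘 := 𝓘)
  haveI : IsProper (X ↘ Spec (CommRingCat.of A)) := by rw [hf]; infer_instance
  let hL := isLocNoeth f (𝓘 := 𝓘)
  obtain ⟨e, -⟩ := H24FMod.exists_pull_iso hL (FSch.completionToX X 𝓘) (FSch.completionToX_comm X 𝓘)
    (FSch.complTransIso 𝓘) (fun _ => rfl) F hF
  obtain ⟨e', -⟩ := H24FMod.exists_complIso (FSch.completionToX X 𝓘) (FSch.completionToX_comm X 𝓘) I
    (H24FMod.ker_completionToX A I f h𝓘 hf) (FSch.complTransIso 𝓘) (fun _ => rfl)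
    (IsNoetherian.noetherian I) F hF
  obtain ⟨e''⟩ := H24FMod.nonempty_push_realMod_iso hL (FSch.completionToX X 𝓘) (FSch.completionToX_comm X 𝓘)
    (H24FMod.pbSys (FSch.completionToX X 𝓘) (FSch.complTransIso 𝓘) F)
  exact ⟨(pP 𝓘 hX).mapIso e ≪≫ e''.symm ≪≫ (lim.mapIso e').symm⟩

include f h𝓘 hf in
/-- The unit is bijective on coherent modules killed by a power of the ideal. -/
theorem isIso_unit_of_killed (N : X.Modules) (hN : Coh.IsCoh N) (m : ℕ)
    (hk : Formal.KilledBy (I ^ (m + 1)) N) : IsIso ((kAdj 𝓘 hX).unit.app N) := by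
  haveI := isLocallyNoetherian f
  haveI := H24FMod.isClosedImmersion_completionToX (𝓘 := 𝓘)
  haveI : IsProper (X ↘ Spec (CommRingCat.of A)) := by rw [hf]; infer_instance
  let hL := isLocNoeth f (𝓘 := 𝓘)
  let c := FSch.completionToX X 𝓘
  let hc := FSch.completionToX_comm X 𝓘
  let T := FSch.complTransIso 𝓘
  obtain ⟨e, he⟩ := H24FMod.exists_pull_iso hL c hc T (fun _ => rfl) N hN
  obtain ⟨e', he'⟩ := H24FMod.exists_complIso c hc I (H24FMod.ker_completionToX A I f h𝓘 hf) T (fun _ => rfl)
    (IsNoetherian.noetherian I) N hN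
  let S := FSch.toSchemeMor (FSch.completionAlong X 𝓘) hL.1 c hc
  let 𝔑 := H24FMod.pbSys c T N
  haveI : S.push.IsRightAdjoint := S.adj.isRightAdjoint
  have hlim := isLimitOfPreserves S.push (limit.isLimit (FSch.levelSysOf (FSch.completionAlong X 𝓘) hL.1 𝔑.F 𝔑.toPush))
  have key : IsIso (S.adj.homEquiv _ _ e.hom) := by
    refine isIso_of_eventually hlim _ m fun j hj => ?_
    show IsIso (S.adj.homEquiv _ _ e.hom ≫ S.push.map
      (FSch.realProj (FSch.completionAlong X 𝓘) hL.1 𝔑.F 𝔑.toPush j))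
    rw [he j]
    have h0 : Formal.smulFamily (I ^ (j + 1)) N = 0 := Sigma.hom_ext _ _ fun a => by
      rw [Formal.smulFamily, Sigma.ι_desc, comp_zero]
      exact hk (a : A) (Ideal.pow_le_pow_right (by omega) a.2)
    haveI : IsIso (Formal.modPowπ I (j + 1) N) := by
      haveI : Mono (Formal.modPowπ I (j + 1) N) := by
        refine ⟨fun u v huv => ?_⟩
        let r : Formal.modPow I (j + 1) N ⟶ N := cokernel.desc _ (𝟙 N) (by rw [h0, zero_comp])
        have hr : Formal.modPowπ I (j + 1) N ≫ r = 𝟙 N := cokernel.π_desc _ _ _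
        rw [← Category.comp_id u, ← Category.comp_id v, ← hr, reassoc_of% huv]
      haveI : Epi (Formal.modPowπ I (j + 1) N) := inferInstanceAs (Epi (cokernel.π _))
      exact isIso_of_mono_of_epi _
    haveI : IsIso (e'.hom.app (op j)) := inferInstance
    haveI : IsIso (H24FMod.lvUnit c T N j) := by rw [← he' j]; infer_instance
    haveI := H24FMod.isIso_schPushCompare hL c hc j (𝔑.F j)
    exact inferInstanceAs (IsIso (H24FMod.lvUnit c T N j ≫
      (FSch.schPushCompare (FSch.completionAlong X 𝓘) hL.1 c hc j).app (𝔑.F j)))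
  rw [Adjunction.homEquiv_unit] at key
  haveI : IsIso (S.push.map e.hom) := inferInstance
  exact @IsIso.of_isIso_comp_right _ _ _ _ _ (S.adj.unit.app N) (S.push.map e.hom) ‹_› key

end Groth.Agent.H8FSch.Algz
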